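import Mathlib
import Cfsg.Agent.Lib.LocalEven.Residual
import Cfsg.Agent.Lib.FrobRealize.Quaternion

/-!
# Two-groups with few involutions and central elements of order four

If every element of order dividing `4` of a `2`-group is central then the index of its Frattini
subgroup is at most the number of solutions of `x ^ 2 = 1`.
-/

set_option autoImplicit false
set_option linter.style.haveILetI false

namespace CfsgLib.TwoGroups.MacWilliams

universe u

variable {H : Type u} [Group H]

/-- Elements of order dividing four are central. -/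
def TC (H : Type u) [Group H] : Prop :=
  ∀ x y : H, x ^ 4 = 1 → x * y = y * x

theorem TC.of_injective {K : Type u} [Group K] (f : K →* H) (hf : Function.Injective f)
    (h : TC H) : TC K := fun x y hx =>
  hf (by rw [map_mul, map_mul, h _ _ (by rw [← map_pow, hx, map_one])])

/-- A `2`-power of exact order four. -/
theorem exists_pow_four (h2 : IsPGroup 2 H) {x : H} (hx : x ^ 2 ≠ 1) :
    ∃ i : ℕ, (x ^ 2 ^ i) ^ 4 = 1 ∧ (x ^ 2 ^ i) ^ 2 ≠ 1 ∧ (x ^ 4 ≠ 1 → 1 ≤ i) := by
  classical
  have hex : ∃ k : ℕ, x ^ 2 ^ k = 1 := h2 x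
  have hs := Nat.find_spec hex
  have h1 : 2 ≤ Nat.find hex := by
    by_contra h
    have : Nat.find hex ≤ 1 := by omega
    refine hx ?_
    obtain ⟨d, hd⟩ := Nat.exists_eq_add_of_le this
    have : (2 : ℕ) = 2 ^ Nat.find hex * 2 ^ d := by rw [← pow_add, ← hd, pow_one]
    rw [this, pow_mul, hs, one_pow]
  obtain ⟨i, hi⟩ := Nat.exists_eq_add_of_le h1
  refine ⟨i, ?_, ?_, fun h4 => ?_⟩
  · rw [← pow_mul, show 2 ^ i * 4 = 2 ^ Nat.find hex by rw [hi, pow_add]; ring, hs]
  · rw [← pow_mul, ← pow_succ]
    exact Nat.find_min hex (by omega)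
  · by_contra h
    refine h4 ?_
    rw [show (4 : ℕ) = 2 ^ Nat.find hex by rw [hi, show i = 0 by omega]; rfl, hs]

/-- If `x` inverts `c` and a power of order four of `c` is central, then `c` has order at most two. -/
theorem sq_eq_one_of_inverted (h2 : IsPGroup 2 H) (h : TC H) {x c : H} (hc : x * c * x⁻¹ = c⁻¹) :
    c ^ 2 = 1 := by
  by_contra hne
  obtain ⟨i, hi4, hi2, -⟩ := exists_pow_four h2 hne
  have e1 : x * c ^ 2 ^ i * x⁻¹ = (c ^ 2 ^ i)⁻¹ := by rw [← conj_pow, hc, inv_pow]
  rw [← h _ x hi4, mul_inv_cancel_right] at e1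
  refine hi2 ?_
  rw [pow_two]
  nth_rw 2 [e1]
  exact mul_inv_cancel _

theorem conj_small (h2 : IsPGroup 2 H) (h : TC H) {x : H} (hx : x ^ 8 = 1) (g : H) :
    (x⁻¹ * (g * x * g⁻¹)) ^ 2 = 1 := by
  have hsq : (x ^ 2) ^ 4 = 1 := by rw [← pow_mul]; exact hx
  have hy : (g * x * g⁻¹) ^ 2 = x ^ 2 := by rw [conj_pow, ← h _ g hsq, mul_inv_cancel_right]
  refine sq_eq_one_of_inverted h2 h (x := x) ?_
  rw [mul_inv_rev, inv_inv, mul_inv_cancel_left]
  apply mul_left_cancel (a := g * x * g⁻¹)
  rw [mul_inv_cancel_left, ← mul_assoc, ← pow_two, hy, pow_two, mul_inv_cancel_right]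

/-- An element whose square has order at most four commutes with all squares. -/
theorem commute_sq (h2 : IsPGroup 2 H) (h : TC H) {x : H} (hx : x ^ 8 = 1) (g : H) :
    g ^ 2 * x = x * g ^ 2 := by
  set v := x⁻¹ * (g * x * g⁻¹) with hv
  have hv2 : v ^ 2 = 1 := conj_small h2 h hx g
  have hvc : g * v = v * g := (h v g (by rw [show (4 : ℕ) = 2 * 2 by rfl, pow_mul, hv2, one_pow])).symm
  have e1 : g * x = x * v * g := by rw [hv]; group
  calc g ^ 2 * x = g * (g * x) := by rw [pow_two, mul_assoc]
    _ = g * (x * v * g) := by rw [e1]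
    _ = g * x * (v * g) := by simp only [mul_assoc]
    _ = x * v * g * (v * g) := by rw [e1]
    _ = x * v * (g * v) * g := by simp only [mul_assoc]
    _ = x * v * (v * g) * g := by rw [hvc]
    _ = x * (v * v) * (g * g) := by simp only [mul_assoc]
    _ = x * g ^ 2 := by rw [← pow_two, hv2, mul_one, ← pow_two]

/-- The solutions of `x ^ 2 = 1`. -/
def omega (h : TC H) : Subgroup H where
  carrier := {x | x ^ 2 = 1}
  one_mem' := one_pow 2
  mul_mem' := by
    intro a b ha hb
    have : a * b = b * a := h a b (by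
      rw [show (4 : ℕ) = 2 * 2 by rfl, pow_mul, show a ^ 2 = 1 from ha, one_pow])
    show (a * b) ^ 2 = 1
    rw [(show Commute a b from this).mul_pow, show a ^ 2 = 1 from ha, show b ^ 2 = 1 from hb, one_mul]
  inv_mem' := by intro a ha; show a⁻¹ ^ 2 = 1; rw [inv_pow, show a ^ 2 = 1 from ha, inv_one]

theorem omega_normal (h : TC H) : (omega h).Normal := by
  refine ⟨fun n hn g => ?_⟩
  show (g * n * g⁻¹) ^ 2 = 1
  rw [conj_pow, show n ^ 2 = 1 from hn, mul_one, mul_inv_cancel]

theorem tc_quotient [Finite H] (h2 : IsPGroup 2 H) (h : TC H) :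
    @TC (H ⧸ omega h) (@QuotientGroup.Quotient.group H _ (omega h) (omega_normal h)) := by
  haveI := omega_normal h
  intro q r hq
  induction q using QuotientGroup.induction_on with
  | H x =>
    induction r using QuotientGroup.induction_on with
    | H g =>
      rw [← QuotientGroup.mk_pow, QuotientGroup.eq_one_iff] at hq
      have hx : x ^ 8 = 1 := by
        rw [show (8 : ℕ) = 4 * 2 by rfl, pow_mul]; exact hq
      rw [← QuotientGroup.mk_mul, ← QuotientGroup.mk_mul, QuotientGroup.eq]
      show ((x * g)⁻¹ * (g * x)) ^ 2 = 1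
      have e : (x * g)⁻¹ * (g * x) = g⁻¹ * (x⁻¹ * (g * x * g⁻¹)) * g⁻¹⁻¹ := by group
      rw [e, conj_pow, conj_small h2 h hx g, mul_one, mul_inv_cancel]

theorem card_sq_quotient [Finite H] (h : TC H) :
    haveI := omega_normal h
    Nat.card {q : H ⧸ omega h // q ^ 2 = 1} ≤ Nat.card {x : H // x ^ 2 = 1} := by
  haveI := omega_normal h
  -- squaring maps the elements of order dividing four into `omega`
  let W : Subgroup H :=
    { carrier := {x | x ^ 4 = 1}
      one_mem' := one_pow 4
      mul_mem' := by
        intro a b ha hb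
        show (a * b) ^ 4 = 1
        rw [(show Commute a b from h a b ha).mul_pow, show a ^ 4 = 1 from ha,
          show b ^ 4 = 1 from hb, one_mul]
      inv_mem' := by intro a ha; show a⁻¹ ^ 4 = 1; rw [inv_pow, show a ^ 4 = 1 from ha, inv_one] }
  let f : W →* H :=
    { toFun := fun x => (x : H) ^ 2
      map_one' := by simp
      map_mul' := fun a b => by
        rw [Subgroup.coe_mul]
        exact (show Commute (a : H) b from h a b a.2).mul_pow 2 }
  have hker : f.ker = (omega h).subgroupOf W := by ext x; exact Iff.rfl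
  have hr : Nat.card f.range ≤ Nat.card {x : H // x ^ 2 = 1} := by
    refine Nat.card_le_card_of_injective
      (fun y : f.range => (⟨y.1, ?_⟩ : {x : H // x ^ 2 = 1})) fun a b e =>
        Subtype.ext (congrArg (fun t : {x : H // x ^ 2 = 1} => t.1) e)
    obtain ⟨x, hx⟩ := y.2
    rw [← hx]
    show ((x : H) ^ 2) ^ 2 = 1
    rw [← pow_mul]; exact x.2
  rw [← Subgroup.index_ker, hker] at hr
  refine le_trans ?_ hr
  rw [Subgroup.index]
  refine Nat.card_le_card_of_surjective (fun q : W ⧸ (omega h).subgroupOf W =>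
    (Quotient.liftOn' q (fun x : W => (⟨((x : H) : H ⧸ omega h), ?_⟩ :
      {z : H ⧸ omega h // z ^ 2 = 1})) ?_)) ?_
  · rw [← QuotientGroup.mk_pow, QuotientGroup.eq_one_iff]
    show ((x : H) ^ 2) ^ 2 = 1
    rw [← pow_mul]; exact x.2
  · intro a b hab
    refine Subtype.ext (QuotientGroup.eq.2 ?_)
    exact Subgroup.mem_subgroupOf.1 (QuotientGroup.leftRel_apply.1 hab)
  · rintro ⟨z, hz⟩
    induction z using QuotientGroup.induction_on with
    | H x =>
      rw [← QuotientGroup.mk_pow, QuotientGroup.eq_one_iff] at hz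
      have hx : x ∈ W := by
        show x ^ 4 = 1
        rw [show (4 : ℕ) = 2 * 2 by rfl, pow_mul]; exact hz
      exact ⟨QuotientGroup.mk ⟨x, hx⟩, rfl⟩

/-- The Frattini subgroup lies in every subgroup containing all squares. -/
theorem frattini_le_of_sq [Finite H] {N : Subgroup H} [N.Normal]
    (hsq : ∀ a : H, a ^ 2 ∈ N) : frattini H ≤ N := by
  haveI : Fact (Nat.Prime 2) := ⟨Nat.prime_two⟩
  refine CfsgLib.LocalEven.Residual.frattini_le (p := 2) (fun a b => ?_) hsq
  rw [← QuotientGroup.eq_one_iff, ← QuotientGroup.mk'_apply, map_commutatorElement,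
    commutatorElement_eq_one_iff_mul_comm]
  exact Commute.eq (commute_of_exponent (fun q => by
    induction q using QuotientGroup.induction_on with
    | H x => rw [← QuotientGroup.mk_pow, QuotientGroup.eq_one_iff]; exact hsq x) _ _)
where
  commute_of_exponent {K : Type u} [Group K] (h : ∀ q : K, q ^ 2 = 1) (a b : K) : Commute a b := by
    have hi : ∀ q : K, q⁻¹ = q := fun q => inv_eq_of_mul_eq_one_right (by rw [← pow_two, h q])
    show a * b = b * a
    rw [← hi (a * b), mul_inv_rev, hi, hi]

theorem index_frattini_le [Finite H] (h2 : IsPGroup 2 H) (h : TC H) :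
    (frattini H).index ≤ Nat.card {x : H // x ^ 2 = 1} := by
  haveI : Fact (Nat.Prime 2) := ⟨Nat.prime_two⟩
  suffices ∀ (n : ℕ) (K : Type u) [Group K] [Finite K], Nat.card K = n → IsPGroup 2 K → TC K →
      (frattini K).index ≤ Nat.card {x : K // x ^ 2 = 1} from this _ H rfl h2 h
  intro n
  induction n using Nat.strong_induction_on with
  | _ n ih =>
    intro K _ _ hn h2 h
    haveI := omega_normal h
    haveI : Nonempty {x : K // x ^ 2 = 1} := ⟨⟨1, one_pow 2⟩⟩
    by_cases hbot : omega h = ⊥
    · haveI : Subsingleton K := by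
        refine not_nontrivial_iff_subsingleton.1 fun hnt => ?_
        obtain ⟨z, hz⟩ := exists_prime_orderOf_dvd_card' (G := K) 2
          ((h2.card_eq_or_dvd).resolve_left (Finite.one_lt_card_iff_nontrivial.2 hnt).ne')
        have : z ∈ omega h := by show z ^ 2 = 1; rw [← hz, pow_orderOf_eq_one]
        rw [hbot, Subgroup.mem_bot] at this
        rw [this, orderOf_one] at hz; omega
      rw [Subgroup.index, Nat.card_of_subsingleton (QuotientGroup.mk (1 : K))]
      exact Nat.card_pos
    by_cases hle : omega h ≤ frattini K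
    · have hlt : Nat.card (K ⧸ omega h) < n := by
        rw [← hn, Subgroup.card_eq_card_quotient_mul_card_subgroup (omega h)]
        exact lt_mul_of_one_lt_right Nat.card_pos ((Subgroup.one_lt_card_iff_ne_bot _).2 hbot)
      have h1 := ih _ hlt (K ⧸ omega h) rfl (h2.to_quotient _) (tc_quotient h2 h)
      have h3 : frattini (K ⧸ omega h) ≤ (frattini K).map (QuotientGroup.mk' (omega h)) := by
        haveI : ((frattini K).map (QuotientGroup.mk' (omega h))).Normal :=
          Subgroup.Normal.map inferInstance _ (QuotientGroup.mk'_surjective _)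
        refine frattini_le_of_sq fun q => ?_
        induction q using QuotientGroup.induction_on with
        | H x => exact ⟨x ^ 2, CfsgLib.PGroup.Frattini.pow_mem_frattini h2 x, rfl⟩
      have h5 := (Subgroup.index_antitone h3).trans (h1.trans (card_sq_quotient h))
      rwa [Subgroup.index_map_eq _ (QuotientGroup.mk'_surjective _)
        (by rw [QuotientGroup.ker_mk']; exact hle)] at h5
    · obtain ⟨z, hz, hzΦ⟩ := SetLike.not_le_iff_exists.1 hle
      obtain ⟨M, hM, hzM⟩ : ∃ M : Subgroup K, IsCoatom M ∧ z ∉ M := by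
        simpa [frattini, Order.radical, Subgroup.mem_iInf] using hzΦ
      haveI := CfsgLib.PGroup.Frattini.normal_of_isCoatom h2 hM
      have hidx := CfsgLib.PGroup.Frattini.index_of_isCoatom h2 hM
      have hlt : Nat.card M < n := by
        rw [← hn, ← Subgroup.card_mul_index M, hidx]
        exact lt_mul_of_one_lt_right Nat.card_pos (by norm_num)
      have h1 := ih _ hlt M rfl (h2.to_subgroup M) (h.of_injective M.subtype M.subtype_injective)
      have h4 : 2 * Nat.card {x : M // x ^ 2 = 1} ≤ Nat.card {x : K // x ^ 2 = 1} := by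
        rw [show 2 * Nat.card {x : M // x ^ 2 = 1} = Nat.card (Bool × {x : M // x ^ 2 = 1}) by
          rw [Nat.card_prod, Nat.card_eq_fintype_card (α := Bool), Fintype.card_bool]]
        have hz2 : z ^ 2 = 1 := hz
        have hx2 : ∀ x : {x : M // x ^ 2 = 1}, ((x.1 : M) : K) ^ 2 = 1 := fun x => by
          rw [← Subgroup.coe_pow, x.2, Subgroup.coe_one]
        refine Nat.card_le_card_of_injective
          (fun t => (⟨(if t.1 then z else 1) * ((t.2.1 : M) : K), ?_⟩ : {x : K // x ^ 2 = 1})) ?_
        · have hc : Commute ((t.2.1 : M) : K) (if t.1 then z else 1) :=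
            h _ _ (by rw [show (4 : ℕ) = 2 * 2 by rfl, pow_mul, hx2, one_pow])
          rw [hc.symm.mul_pow, hx2, mul_one]
          split
          · exact hz2
          · exact one_pow 2
        · rintro ⟨a, x⟩ ⟨b, y⟩ hxy
          have hxy' := congrArg Subtype.val hxy
          simp only at hxy'
          cases a <;> cases b <;> simp only [if_true, if_false, one_mul, Bool.false_eq_true] at hxy'
          · exact congrArg _ (Subtype.ext (Subtype.ext hxy'))
          · refine absurd ?_ hzM
            rw [show z = (x.1 : K) * (y.1 : K)⁻¹ by rw [hxy', mul_inv_cancel_right]]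
            exact M.mul_mem x.1.2 (M.inv_mem y.1.2)
          · refine absurd ?_ hzM
            rw [show z = (y.1 : K) * (x.1 : K)⁻¹ by rw [← hxy', mul_inv_cancel_right]]
            exact M.mul_mem y.1.2 (M.inv_mem x.1.2)
          · exact congrArg _ (Subtype.ext (Subtype.ext (mul_left_cancel hxy')))
      have h3 : (frattini M).map M.subtype ≤ frattini K := by
        rw [Subgroup.map_le_iff_le_comap]
        haveI : ((frattini K).comap M.subtype).Normal := inferInstance
        exact frattini_le_of_sq fun a => CfsgLib.PGroup.Frattini.pow_mem_frattini h2 (a : K)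
      refine le_trans (Nat.le_of_dvd (Nat.pos_of_ne_zero Subgroup.index_ne_zero_of_finite)
        (Subgroup.index_dvd_of_le h3)) ?_
      rw [Subgroup.index_map_subtype, hidx]
      omega

end CfsgLib.TwoGroups.MacWilliams
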