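import Mathlib
import Cfsg.Agent.Lib.TwoGroups.MacWilliams.Central

/-!
# A maximal normal abelian subgroup of exponent four

`A` is maximal among the normal abelian subgroups of exponent dividing four of a `2`-group without
a normal elementary abelian subgroup of order eight, and `C` is its centralizer.
-/

set_option autoImplicit false
set_option linter.style.haveILetI false

namespace CfsgLib.TwoGroups.MacWilliams

open scoped commutatorElement

universe u

variable {P : Type u} [Group P]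

/-- Every normal elementary abelian subgroup has order at most four. -/
def SmallElem (P : Type u) [Group P] : Prop :=
  ∀ B : Subgroup P, B.Normal → IsMulCommutative B → (∀ b ∈ B, b ^ 2 = 1) → Nat.card B ≤ 4

/-- `A` is maximal among the normal abelian subgroups of exponent dividing four. -/
structure MaxFour (A : Subgroup P) : Prop where
  normal : A.Normal
  comm : ∀ a ∈ A, ∀ b ∈ A, a * b = b * a
  pow_four : ∀ a ∈ A, a ^ 4 = 1
  maximal : ∀ B : Subgroup P, B.Normal → (∀ a ∈ B, ∀ b ∈ B, a * b = b * a) →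
    (∀ a ∈ B, a ^ 4 = 1) → A ≤ B → B ≤ A

theorem exists_maxFour [Finite P] : ∃ A : Subgroup P, MaxFour A := by
  let S : Set (Subgroup P) := {B | B.Normal ∧ (∀ a ∈ B, ∀ b ∈ B, a * b = b * a) ∧ ∀ a ∈ B, a ^ 4 = 1}
  have hb : (⊥ : Subgroup P) ∈ S := by
    refine ⟨inferInstance, fun a ha b hb => ?_, fun a ha => ?_⟩
    · rw [Subgroup.mem_bot.1 ha, Subgroup.mem_bot.1 hb]
    · rw [Subgroup.mem_bot.1 ha, one_pow]
  obtain ⟨A, hA⟩ := (Set.toFinite S).exists_maximal ⟨⊥, hb⟩
  exact ⟨A, hA.prop.1, hA.prop.2.1, hA.prop.2.2, fun B h1 h2 h3 h4 => hA.2 ⟨h1, h2, h3⟩ h4⟩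

/-- The centralizer of `A`. -/
def cen (A : Subgroup P) : Subgroup P := Subgroup.centralizer (A : Set P)

theorem mem_cen {A : Subgroup P} {x : P} : x ∈ cen A ↔ ∀ a ∈ A, a * x = x * a := Iff.rfl

namespace MaxFour

variable {A : Subgroup P} (hA : MaxFour A)

theorem conj_mem (hA : MaxFour A) {a : P} (ha : a ∈ A) (g : P) : g * a * g⁻¹ ∈ A :=
  hA.normal.conj_mem a ha g

theorem le_cen (hA : MaxFour A) : A ≤ cen A := fun x hx => mem_cen.2 fun a ha => hA.comm a ha x hx

theorem cen_normal (hA : MaxFour A) : (cen A).Normal := by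
  refine ⟨fun x hx g => mem_cen.2 fun a ha => ?_⟩
  have h := mem_cen.1 hx (g⁻¹ * a * g) (by simpa using hA.conj_mem ha g⁻¹)
  calc a * (g * x * g⁻¹) = g * ((g⁻¹ * a * g) * x) * g⁻¹ := by group
    _ = g * (x * (g⁻¹ * a * g)) * g⁻¹ := by rw [h]
    _ = g * x * g⁻¹ * a := by group

theorem cen_conj (hA : MaxFour A) {x : P} (hx : x ∈ cen A) (g : P) : g * x * g⁻¹ ∈ cen A :=
  hA.cen_normal.conj_mem x hx g

/-- In a finite `2`-group a nontrivial normal subgroup properly contains its commutator with the group. -/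
theorem commutator_lt [Finite P] (h2 : IsPGroup 2 P) {K : Subgroup P} [K.Normal] (hK : K ≠ ⊥) :
    ⁅(⊤ : Subgroup P), K⁆ < K := by
  haveI : Fact (Nat.Prime 2) := ⟨Nat.prime_two⟩
  haveI := h2.isNilpotent
  refine lt_of_le_of_ne (Subgroup.commutator_le_right _ _) fun he => hK ?_
  obtain ⟨n, hn⟩ := Subgroup.nilpotent_iff_lowerCentralSeries.1 (inferInstance : Group.IsNilpotent P)
  have : ∀ m, K ≤ (⊤ : Subgroup P).lowerCentralSeries m := by
    intro m
    induction m with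
    | zero => exact le_top
    | succ m ih =>
      rw [← he]
      refine Subgroup.commutator_le.2 fun g _ k hk => ?_
      rw [← commutatorElement_inv]
      exact inv_mem (Subgroup.commutator_mem_commutator (ih hk) (Subgroup.mem_top g))
  exact eq_bot_iff.2 (hn ▸ this n)

/-- Every element of order dividing four of the centralizer of `A` lies in `A`. -/
theorem mem_of_pow_four [Finite P] (h2 : IsPGroup 2 P) (hA : MaxFour A) {x : P} (hx : x ∈ cen A)
    (hx4 : x ^ 4 = 1) : x ∈ A := by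
  classical
  by_contra hxA
  let S : Set (Subgroup P) := {K | K.Normal ∧ K ≤ cen A ∧ ∃ w ∈ K, w ∉ A ∧ w ^ 4 = 1}
  obtain ⟨K, hK⟩ := (Set.toFinite S).exists_minimal ⟨cen A, hA.cen_normal, le_rfl, x, hx, hxA, hx4⟩
  obtain ⟨hKn, hKC, w, hwK, hwA, hw4⟩ := hK.prop
  haveI := hKn
  have hK0 : ∀ c ∈ ⁅(⊤ : Subgroup P), K⁆, c ^ 4 = 1 → c ∈ A := by
    intro c hc hc4
    by_contra hcA
    have hlt := commutator_lt h2 (K := K) (fun e => hwA (by
      rw [e, Subgroup.mem_bot] at hwK; rw [hwK]; exact one_mem A))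
    exact hlt.not_ge (hK.2 ⟨inferInstance, hlt.le.trans hKC, c, hc, hcA, hc4⟩ hlt.le)
  obtain ⟨v, hvK, hvA, hv4, hv2⟩ : ∃ v ∈ K, v ∉ A ∧ v ^ 4 = 1 ∧ v ^ 2 ∈ A := by
    by_cases h : w ^ 2 ∈ A
    · exact ⟨w, hwK, hwA, hw4, h⟩
    · refine ⟨w ^ 2, K.pow_mem hwK 2, h, ?_, ?_⟩
      · rw [← pow_mul, show 2 * 4 = 4 * 2 by rfl, pow_mul, hw4, one_pow]
      · rw [← pow_mul, show 2 * 2 = 4 by rfl, hw4]; exact one_mem A
  have hvC := hKC hvK
  -- all conjugates of `v` are congruent to `v` modulo `A`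
  have key : ∀ g : P, v⁻¹ * (g * v * g⁻¹) ∈ A := by
    intro g
    set c := v⁻¹ * (g * v * g⁻¹) with hc
    have hcK0 : c ∈ ⁅(⊤ : Subgroup P), K⁆ := by
      have e : c = v⁻¹ * ⁅g, v⁆ * v⁻¹⁻¹ := by rw [hc, commutatorElement_def]; group
      rw [e]
      exact Subgroup.Normal.conj_mem inferInstance _
        (Subgroup.commutator_mem_commutator (Subgroup.mem_top g) hvK) _
    have hcC : c ∈ cen A := hKC (Subgroup.commutator_le_right _ _ hcK0)
    set z := (v ^ 2)⁻¹ * (g * v * g⁻¹) ^ 2 with hz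
    have hgv : (g * v * g⁻¹) ^ 2 ∈ A := by rw [conj_pow]; exact hA.conj_mem hv2 g
    have hzA : z ∈ A := A.mul_mem (A.inv_mem hv2) hgv
    have hz2 : z ^ 2 = 1 := by
      rw [hz, (show Commute (v ^ 2)⁻¹ ((g * v * g⁻¹) ^ 2) from
        hA.comm _ (A.inv_mem hv2) _ hgv).mul_pow, inv_pow, ← pow_mul, ← pow_mul,
        show 2 * 2 = 4 by rfl, hv4, conj_pow, hv4]
      group
    have hconj : v⁻¹ * c * v = z * c⁻¹ := by rw [hz, hc]; simp only [pow_two]; group
    by_contra hcA
    have hex : ∃ k : ℕ, c ^ 2 ^ k ∈ A := by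
      obtain ⟨k, hk⟩ := h2 c; exact ⟨k, by rw [hk]; exact one_mem A⟩
    obtain ⟨k, hk⟩ := Nat.exists_eq_succ_of_ne_zero (n := Nat.find hex) (fun h => hcA (by
      have := Nat.find_spec hex; rwa [h, pow_zero, pow_one] at this))
    set d := c ^ 2 ^ k with hd
    have hdA : d ∉ A := Nat.find_min hex (by omega)
    have hd2 : d ^ 2 ∈ A := by
      rw [hd, ← pow_mul, ← pow_succ]; have := Nat.find_spec hex; rwa [hk] at this
    have hzc : Commute z c⁻¹ := mem_cen.1 (inv_mem hcC) z hzA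
    have hd' : v⁻¹ * d * v = z ^ 2 ^ k * d⁻¹ := by
      rw [hd]
      have := congrArg (fun t => t ^ 2 ^ k) hconj
      simp only [hzc.mul_pow, inv_pow] at this
      rw [← this]
      conv_rhs => rw [show v⁻¹ * c * v = v⁻¹ * c * v⁻¹⁻¹ by rw [inv_inv], conj_pow, inv_inv]
    have hd4 : d ^ 4 = 1 := by
      have e1 : v⁻¹ * d ^ 2 * v = d ^ 2 := by
        rw [mul_assoc, mem_cen.1 hvC (d ^ 2) hd2, inv_mul_cancel_left]
      have e2 : (v⁻¹ * d * v) ^ 2 = v⁻¹ * d ^ 2 * v := by simp only [pow_two]; group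
      rw [hd', (show Commute (z ^ 2 ^ k) d⁻¹ from by
        have hc' : Commute z d⁻¹ := by rw [hd, ← inv_pow]; exact hzc.pow_right _
        exact hc'.pow_left _).mul_pow, ← pow_mul, mul_comm (2 ^ k) 2, pow_mul, hz2, one_pow,
        one_mul, e1, inv_pow] at e2
      rw [show (4 : ℕ) = 2 * 2 by rfl, pow_mul, pow_two]
      nth_rw 1 [← e2]
      exact inv_mul_cancel _
    exact hdA (hK0 d (pow_mem hcK0 _) hd4)
  -- `A ⊔ ⟨v⟩` contradicts the maximality of `A`
  let W : Subgroup P := A ⊔ Subgroup.zpowers v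
  have hvW : v ∈ W := Subgroup.mem_sup_right (Subgroup.mem_zpowers v)
  haveI := hA.normal
  have hmem : ∀ t ∈ W, ∃ a ∈ A, ∃ i : ℤ, a * v ^ i = t := by
    intro t ht
    rw [Subgroup.mem_sup_of_normal_left] at ht
    obtain ⟨a, ha, q, hq, rfl⟩ := ht
    obtain ⟨i, rfl⟩ := Subgroup.mem_zpowers_iff.1 hq
    exact ⟨a, ha, i, rfl⟩
  have hcv : ∀ a ∈ A, ∀ i : ℤ, Commute a (v ^ i) := fun a ha i =>
    (show Commute a v from mem_cen.1 hvC a ha).zpow_right i
  refine hvA (hA.maximal W ?_ ?_ ?_ le_sup_left hvW)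
  · refine ⟨fun t ht g => ?_⟩
    obtain ⟨a, ha, i, rfl⟩ := hmem t ht
    rw [show g * (a * v ^ i) * g⁻¹ = g * a * g⁻¹ * (g * v ^ i * g⁻¹) by group, ← conj_zpow]
    refine W.mul_mem (Subgroup.mem_sup_left (hA.conj_mem ha g)) (W.zpow_mem ?_ i)
    rw [show g * v * g⁻¹ = v * (v⁻¹ * (g * v * g⁻¹)) by group]
    exact W.mul_mem hvW (Subgroup.mem_sup_left (key g))
  · intro s hs t ht
    obtain ⟨a, ha, i, rfl⟩ := hmem s hs
    obtain ⟨b, hb, j, rfl⟩ := hmem t ht
    exact Commute.eq (((show Commute a b from hA.comm a ha b hb).mul_right (hcv a ha j)).mul_left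
      ((hcv b hb i).symm.mul_right (Commute.zpow_zpow_self v i j)))
  · intro t ht
    obtain ⟨a, ha, i, rfl⟩ := hmem t ht
    rw [(hcv a ha i).mul_pow, hA.pow_four a ha, one_mul, ← zpow_natCast, ← zpow_mul, mul_comm,
      zpow_mul, zpow_natCast, hv4, one_zpow]

/-- The elements of `A` squaring to one. -/
def four (hA : MaxFour A) : Subgroup P where
  carrier := {x | x ∈ A ∧ x ^ 2 = 1}
  one_mem' := ⟨A.one_mem, one_pow 2⟩
  mul_mem' := fun {a b} ha hb => ⟨A.mul_mem ha.1 hb.1, by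
    rw [(show Commute a b from hA.comm a ha.1 b hb.1).mul_pow, ha.2, hb.2, one_mul]⟩
  inv_mem' := fun {a} ha => ⟨A.inv_mem ha.1, by rw [inv_pow, ha.2, inv_one]⟩

theorem mem_four {x : P} : x ∈ hA.four ↔ x ∈ A ∧ x ^ 2 = 1 := Iff.rfl

theorem four_conj {x : P} (hx : x ∈ hA.four) (g : P) : g * x * g⁻¹ ∈ hA.four :=
  ⟨hA.conj_mem hx.1 g, by rw [conj_pow, hx.2, mul_one, mul_inv_cancel]⟩

theorem card_four (hS : SmallElem P) : Nat.card hA.four ≤ 4 := by
  refine hS _ ⟨fun x hx g => hA.four_conj hx g⟩ ⟨⟨fun a b => ?_⟩⟩ fun b hb => hb.2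
  exact Subtype.ext (hA.comm _ a.2.1 _ b.2.1)

variable [Finite P] (h2 : IsPGroup 2 P)
include hA h2

theorem tc : TC (cen A) := by
  intro x y hx
  have h4 : (x : P) ^ 4 = 1 := by rw [← Subgroup.coe_pow, hx, Subgroup.coe_one]
  exact Subtype.ext (mem_cen.1 y.2 _ (hA.mem_of_pow_four h2 x.2 h4))

theorem mem_four_of_sq {x : P} (hx : x ∈ cen A) (h : x ^ 2 = 1) : x ∈ hA.four :=
  ⟨hA.mem_of_pow_four h2 hx (by rw [show (4 : ℕ) = 2 * 2 by rfl, pow_mul, h, one_pow]), h⟩

theorem card_sq_cen (hS : SmallElem P) : Nat.card {x : cen A // x ^ 2 = 1} ≤ 4 := by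
  refine le_trans (Nat.card_le_card_of_injective (fun x : {x : cen A // x ^ 2 = 1} =>
    (⟨((x.1 : cen A) : P), hA.mem_four_of_sq h2 x.1.2 (by
      rw [← Subgroup.coe_pow, x.2, Subgroup.coe_one])⟩ : hA.four)) ?_) (hA.card_four hS)
  exact fun a b e => Subtype.ext (Subtype.ext
    (congrArg (fun t : hA.four => (t : P)) e))

/-- An element of `C` inverted by an element of `C` squares to one. -/
theorem sq_eq_one_of_inverted {x c : P} (hx : x ∈ cen A) (hc : c ∈ cen A)
    (h : x * c * x⁻¹ = c⁻¹) : c ^ 2 = 1 := by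
  have := MacWilliams.sq_eq_one_of_inverted (h2.to_subgroup _) (hA.tc h2)
    (x := ⟨x, hx⟩) (c := ⟨c, hc⟩) (Subtype.ext h)
  exact congrArg Subtype.val this

theorem conj_small {x : P} (hx : x ∈ cen A) (hx8 : x ^ 8 = 1) {g : P} (hg : g ∈ cen A) :
    x⁻¹ * (g * x * g⁻¹) ∈ hA.four := by
  refine hA.mem_four_of_sq h2 (mul_mem (inv_mem hx) (hA.cen_conj hx g)) ?_
  have := MacWilliams.conj_small (h2.to_subgroup _) (hA.tc h2)
    (x := ⟨x, hx⟩) (Subtype.ext hx8) ⟨g, hg⟩
  exact congrArg Subtype.val this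

/-- An element of `C` whose fourth power lies in `A` is central modulo `A`. -/
theorem comm_mem {x : P} (hx : x ∈ cen A) (h4 : x ^ 4 ∈ A) {g : P} (hg : g ∈ cen A) :
    x⁻¹ * (g * x * g⁻¹) ∈ A := by
  have h16 : (x ^ 2) ^ 8 = 1 := by
    rw [← pow_mul, show 2 * 8 = 4 * 4 by rfl, pow_mul, hA.pow_four _ h4]
  have hv := hA.conj_small h2 (pow_mem hx 2) h16 hg
  set c := x⁻¹ * (g * x * g⁻¹) with hc
  set v := (x ^ 2)⁻¹ * (g * x ^ 2 * g⁻¹) with hv'
  have hcC : c ∈ cen A := mul_mem (inv_mem hx) (hA.cen_conj hx g)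
  have hconj : x⁻¹ * c * x⁻¹⁻¹ = v * c⁻¹ := by rw [hv', hc]; simp only [pow_two]; group
  refine hA.mem_of_pow_four h2 hcC ?_
  rw [show (4 : ℕ) = 2 * 2 by rfl, pow_mul]
  refine hA.sq_eq_one_of_inverted h2 (inv_mem hx) (pow_mem hcC 2) ?_
  rw [← conj_pow, hconj, (show Commute v c⁻¹ from mem_cen.1 (inv_mem hcC) v hv.1).mul_pow,
    hv.2, one_mul, inv_pow]

/-- If `C / A` has at most one involution then `C` is abelian. -/
theorem cen_comm (hF : ∀ x ∈ cen A, ∀ y ∈ cen A, x ^ 2 ∈ A → y ^ 2 ∈ A → x ∉ A → y ∉ A →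
      x⁻¹ * y ∈ A) :
    ∀ x ∈ cen A, ∀ y ∈ cen A, x * y = y * x := by
  haveI : Fact (Nat.Prime 2) := ⟨Nat.prime_two⟩
  let B : Subgroup (cen A) := A.subgroupOf (cen A)
  have hBn : B.Normal := by haveI := hA.normal; infer_instance
  have hQ2 : IsPGroup 2 (cen A ⧸ B) := (h2.to_subgroup _).to_quotient B
  have hTC : TC (cen A ⧸ B) := by
    intro q r hq
    induction q using QuotientGroup.induction_on with
    | H x =>
      induction r using QuotientGroup.induction_on with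
      | H g =>
        rw [← QuotientGroup.mk_pow, QuotientGroup.eq_one_iff, Subgroup.mem_subgroupOf,
          Subgroup.coe_pow] at hq
        rw [← QuotientGroup.mk_mul, ← QuotientGroup.mk_mul, QuotientGroup.eq,
          Subgroup.mem_subgroupOf]
        have e : (((x * g)⁻¹ * (g * x) : cen A) : P) =
            (g : P)⁻¹ * ((x : P)⁻¹ * ((g : P) * x * (g : P)⁻¹)) * (g : P)⁻¹⁻¹ := by
          simp only [Subgroup.coe_mul, Subgroup.coe_inv]; group
        rw [e]
        exact hA.conj_mem (hA.comm_mem h2 x.2 hq g.2) _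
  have hcard2 : Nat.card {q : cen A ⧸ B // q ^ 2 = 1} ≤ 2 := by
    classical
    refine le_trans (Nat.card_le_card_of_injective
      (fun q : {q : cen A ⧸ B // q ^ 2 = 1} => decide (q.1 = 1)) ?_)
      (by rw [Nat.card_eq_fintype_card, Fintype.card_bool])
    rintro ⟨q, hq⟩ ⟨r, hr⟩ e
    have e' : q = 1 ↔ r = 1 := decide_eq_decide.1 e
    refine Subtype.ext ?_
    by_cases h : q = 1
    · exact h.trans (e'.1 h).symm
    · have h' : r ≠ 1 := fun h' => h (e'.2 h')
      induction q using QuotientGroup.induction_on with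
      | H x =>
        induction r using QuotientGroup.induction_on with
        | H y =>
          rw [← QuotientGroup.mk_pow, QuotientGroup.eq_one_iff, Subgroup.mem_subgroupOf,
            Subgroup.coe_pow] at hq hr
          refine QuotientGroup.eq.2 (Subgroup.mem_subgroupOf.2 ?_)
          rw [Subgroup.coe_mul, Subgroup.coe_inv]
          exact hF x x.2 y y.2 hq hr (fun hx => h ((QuotientGroup.eq_one_iff x).2 hx))
            (fun hy => h' ((QuotientGroup.eq_one_iff y).2 hy))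
  have hidx := le_trans (index_frattini_le hQ2 hTC) hcard2
  have hcyc : IsCyclic (cen A ⧸ B) := by
    obtain ⟨g, hg⟩ : ∃ g : cen A ⧸ B, Subgroup.zpowers g ⊔ frattini (cen A ⧸ B) = ⊤ := by
      by_cases h1 : (frattini (cen A ⧸ B)).index = 1
      · exact ⟨1, by rw [Subgroup.index_eq_one.1 h1, sup_top_eq]⟩
      · have h0 : (frattini (cen A ⧸ B)).index ≠ 0 := Subgroup.index_ne_zero_of_finite
        have hi : (frattini (cen A ⧸ B)).index = 2 := by omega
        have hne : frattini (cen A ⧸ B) ≠ ⊤ := fun e => h1 (Subgroup.index_eq_one.2 e)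
        obtain ⟨g, hg⟩ : ∃ g, g ∉ frattini (cen A ⧸ B) := by
          by_contra hh
          push Not at hh
          exact hne ((Subgroup.eq_top_iff' _).2 hh)
        refine ⟨g, (Subgroup.eq_top_iff' _).2 fun q => ?_⟩
        by_cases hq : q ∈ frattini (cen A ⧸ B)
        · exact Subgroup.mem_sup_right hq
        · have hgq : g⁻¹ * q ∈ frattini (cen A ⧸ B) :=
            (Subgroup.mul_mem_iff_of_index_two hi).2 (by simp [hg, hq])
          rw [← mul_inv_cancel_left g q]
          exact Subgroup.mul_mem _ (Subgroup.mem_sup_left (Subgroup.mem_zpowers g))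
            (Subgroup.mem_sup_right hgq)
    exact ⟨g, fun q => Subgroup.mem_zpowers_iff.1 (by rw [frattini_nongenerating hg]; exact Subgroup.mem_top q)⟩
  have hcen : B ≤ Subgroup.center (cen A) := fun b hb =>
    Subgroup.mem_center_iff.2 fun g => Subtype.ext (mem_cen.1 g.2 _ hb).symm
  intro x hx y hy
  haveI := hcyc
  have := commutative_of_cyclic_center_quotient (QuotientGroup.mk' B)
    (by rw [QuotientGroup.ker_mk']; exact hcen) (⟨x, hx⟩ : cen A) ⟨y, hy⟩
  exact congrArg Subtype.val this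

end MaxFour

end CfsgLib.TwoGroups.MacWilliams
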