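import Mathlib
import Cfsg.Agent.Lib.TwoGroups.MacWilliams.Key

/-!
# The case of `A` of type `4 × 4`

The action of the centralizer of `V` on `A`, and the two lemmas that forbid certain elements.
-/

set_option autoImplicit false
set_option linter.style.haveILetI false
set_option linter.unusedSectionVars false

namespace CfsgLib.TwoGroups.MacWilliams

universe u

variable {P : Type u} [Group P]

/-- The image of the Frattini subgroup of a subgroup. -/
def Phi (H : Subgroup P) : Subgroup P := (frattini H).map H.subtype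

theorem Phi_le (H : Subgroup P) : Phi H ≤ H := Subgroup.map_subtype_le _

theorem sq_mem_Phi [Finite P] (h2 : IsPGroup 2 P) {H : Subgroup P} {x : P} (hx : x ∈ H) :
    x ^ 2 ∈ Phi H := by
  haveI : Fact (Nat.Prime 2) := ⟨Nat.prime_two⟩
  exact ⟨_, CfsgLib.PGroup.Frattini.pow_mem_frattini (h2.to_subgroup H) ⟨x, hx⟩, rfl⟩

theorem Phi_le_of_sq [Finite P] {H N : Subgroup P}
    (hN : ∀ n ∈ N, n ∈ H → ∀ g ∈ H, g * n * g⁻¹ ∈ N) (hsq : ∀ x ∈ H, x ^ 2 ∈ N) : Phi H ≤ N := by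
  haveI : (N.subgroupOf H).Normal := ⟨fun n hn g => by
    rw [Subgroup.mem_subgroupOf] at hn ⊢
    exact hN _ hn n.2 _ g.2⟩
  refine Subgroup.map_le_iff_le_comap.2 (frattini_le_of_sq (N := N.subgroupOf H) fun x => ?_)
  rw [Subgroup.mem_subgroupOf, Subgroup.coe_pow]
  exact hsq _ x.2

theorem Phi_mono [Finite P] (h2 : IsPGroup 2 P) {D H : Subgroup P} (h : D ≤ H) : Phi D ≤ Phi H := by
  refine Phi_le_of_sq (fun n hn _ g hg => ?_) fun x hx => sq_mem_Phi h2 (h hx)
  obtain ⟨m, hm, rfl⟩ := hn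
  exact ⟨⟨g, h hg⟩ * m * ⟨g, h hg⟩⁻¹, Subgroup.Normal.conj_mem inferInstance _ hm _, rfl⟩

theorem card_eq_mul_index (H : Subgroup P) : Nat.card H = Nat.card (Phi H) * (frattini H).index := by
  rw [Phi, Subgroup.card_map_of_injective H.subtype_injective, Subgroup.card_mul_index]

/-- `A` is generated by `a` and `b` of order four, with squares `z` central and `y`. -/
structure Large (A : Subgroup P) (a b z y : P) : Prop where
  hA : MaxFour A
  hS : SmallElem P
  ha : a ∈ A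
  hb : b ∈ A
  a2 : a ^ 2 = z
  b2 : b ^ 2 = y
  zc : ∀ g : P, g * z = z * g
  z1 : z ≠ 1
  y1 : y ≠ 1
  yz : y ≠ z

namespace Large

variable [Finite P] {A : Subgroup P} {a b z y : P} (L : Large A a b z y)
include L

theorem z_mem : z ∈ L.hA.four :=
  ⟨L.a2 ▸ A.pow_mem L.ha 2, by rw [← L.a2, ← pow_mul]; exact L.hA.pow_four a L.ha⟩

theorem y_mem : y ∈ L.hA.four :=
  ⟨L.b2 ▸ A.pow_mem L.hb 2, by rw [← L.b2, ← pow_mul]; exact L.hA.pow_four b L.hb⟩

theorem zy : z * y = y * z := L.hA.comm _ L.z_mem.1 _ L.y_mem.1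

theorem zy_ne_one : z * y ≠ 1 := fun h => L.yz (by
  have := L.z_mem.2
  rw [pow_two] at this
  exact mul_left_cancel (h.trans this.symm))

/-- Three distinct nontrivial elements exhaust the four group. -/
theorem cover {p q r : P} (hp : p ∈ L.hA.four) (hq : q ∈ L.hA.four) (hr : r ∈ L.hA.four)
    (p1 : p ≠ 1) (q1 : q ≠ 1) (r1 : r ≠ 1) (pq : p ≠ q) (pr : p ≠ r) (qr : q ≠ r)
    {v : P} (hv : v ∈ L.hA.four) : v = 1 ∨ v = p ∨ v = q ∨ v = r := by
  classical
  by_contra h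
  simp only [not_or] at h
  obtain ⟨v1, vp, vq, vr⟩ := h
  haveI := Fintype.ofFinite L.hA.four
  have hcard := L.hA.card_four L.hS
  rw [Nat.card_eq_fintype_card] at hcard
  have h5 : ({1, ⟨p, hp⟩, ⟨q, hq⟩, ⟨r, hr⟩, ⟨v, hv⟩} : Finset L.hA.four).card = 5 := by
    rw [Finset.card_insert_of_notMem, Finset.card_insert_of_notMem, Finset.card_insert_of_notMem,
      Finset.card_pair]
    · exact fun e => vr (congrArg Subtype.val e).symm
    · simp only [Finset.mem_insert, Finset.mem_singleton, Subtype.ext_iff, not_or]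
      exact ⟨qr, fun e => vq e.symm⟩
    · simp only [Finset.mem_insert, Finset.mem_singleton, Subtype.ext_iff, not_or]
      exact ⟨pq, pr, fun e => vp e.symm⟩
    · simp only [Finset.mem_insert, Finset.mem_singleton, Subtype.ext_iff, not_or, Subgroup.coe_one]
      exact ⟨p1.symm, q1.symm, r1.symm, fun e => v1 e.symm⟩
  have h' := Finset.card_le_univ ({1, ⟨p, hp⟩, ⟨q, hq⟩, ⟨r, hr⟩, ⟨v, hv⟩} : Finset L.hA.four)
  omega

theorem four_cases {v : P} (hv : v ∈ L.hA.four) : v = 1 ∨ v = z ∨ v = y ∨ v = z * y :=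
  L.cover L.z_mem L.y_mem (mul_mem L.z_mem L.y_mem) L.z1 L.y1 L.zy_ne_one L.yz.symm
    (fun h => L.y1 (left_eq_mul.1 h)) (fun h => L.z1 (right_eq_mul.1 h)) hv

theorem cases_A {x : P} (hx : x ∈ A) :
    x ∈ L.hA.four ∨ (∃ v ∈ L.hA.four, x = a * v) ∨ (∃ v ∈ L.hA.four, x = b * v) ∨
      ∃ v ∈ L.hA.four, x = a * b * v := by
  have hsq : x ^ 2 ∈ L.hA.four :=
    ⟨A.pow_mem hx 2, by rw [← pow_mul]; exact L.hA.pow_four x hx⟩
  have aux : ∀ w ∈ A, x ^ 2 = w ^ 2 → ∃ v ∈ L.hA.four, x = w * v := fun w hw e =>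
    ⟨w⁻¹ * x, ⟨A.mul_mem (A.inv_mem hw) hx, by
      rw [(show Commute w⁻¹ x from L.hA.comm _ (A.inv_mem hw) _ hx).mul_pow, inv_pow, e,
        inv_mul_cancel]⟩, (mul_inv_cancel_left w x).symm⟩
  rcases L.four_cases hsq with h | h | h | h
  · exact Or.inl ⟨hx, h⟩
  · exact Or.inr (Or.inl (aux a L.ha (h.trans L.a2.symm)))
  · exact Or.inr (Or.inr (Or.inl (aux b L.hb (h.trans L.b2.symm))))
  · refine Or.inr (Or.inr (Or.inr (aux (a * b) (A.mul_mem L.ha L.hb) ?_)))
    rw [h, (show Commute a b from L.hA.comm _ L.ha _ L.hb).mul_pow, L.a2, L.b2]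

theorem ab_sq : (a * b) ^ 2 = z * y := by
  rw [(show Commute a b from L.hA.comm _ L.ha _ L.hb).mul_pow, L.a2, L.b2]

theorem mul_four_sq {w v : P} (hw : w ∈ A) (hv : v ∈ L.hA.four) : (w * v) ^ 2 = w ^ 2 := by
  rw [(show Commute w v from L.hA.comm _ hw _ hv.1).mul_pow, hv.2, mul_one]

/-- An element of `A` with square `z` lies in `a V`. -/
theorem eq_a_mul {x : P} (hx : x ∈ A) (h : x ^ 2 = z) : ∃ v ∈ L.hA.four, x = a * v :=
  ⟨a⁻¹ * x, ⟨A.mul_mem (A.inv_mem L.ha) hx, by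
    rw [(show Commute a⁻¹ x from L.hA.comm _ (A.inv_mem L.ha) _ hx).mul_pow, inv_pow, h, L.a2,
      inv_mul_cancel]⟩, (mul_inv_cancel_left a x).symm⟩

theorem comm_four_iff {u : P} : u * y = y * u ↔ ∀ v ∈ L.hA.four, u * v = v * u := by
  refine ⟨fun h v hv => ?_, fun h => h y L.y_mem⟩
  rcases L.four_cases hv with rfl | rfl | rfl | rfl
  · rw [mul_one, one_mul]
  · exact L.zc u
  · exact h
  · rw [← mul_assoc, L.zc u, mul_assoc, h, mul_assoc]

theorem mem_cen_of_ab {u : P} (hy : u * y = y * u) (h1 : u * a = a * u) (h2 : u * b = b * u) :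
    u ∈ cen A := mem_cen.2 fun x hx => by
  have hV := L.comm_four_iff.1 hy
  have key : ∀ w, u * w = w * u → ∀ v ∈ L.hA.four, w * v * u = u * (w * v) := fun w hw v hv => by
    rw [mul_assoc, ← hV v hv, ← mul_assoc, ← hw, mul_assoc]
  rcases L.cases_A hx with h | ⟨v, hv, rfl⟩ | ⟨v, hv, rfl⟩ | ⟨v, hv, rfl⟩
  · exact (hV x h).symm
  · exact key a h1 v hv
  · exact key b h2 v hv
  · exact key (a * b) (by rw [← mul_assoc, h1, mul_assoc, h2, mul_assoc]) v hv

/-- Any element maps `y` to `y` or to `z y`. -/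
theorem flip (g : P) : g * y * g⁻¹ = y ∨ g * y * g⁻¹ = z * y := by
  rcases L.four_cases (L.hA.four_conj L.y_mem g) with h | h | h | h
  · exact absurd (conj_eq_one_iff.1 h) L.y1
  · refine absurd ?_ L.yz
    calc y = g⁻¹ * (g * y * g⁻¹) * g := by group
      _ = g⁻¹ * (g * z) := by rw [h, mul_assoc, L.zc g]
      _ = z := inv_mul_cancel_left g z
  · exact Or.inl h
  · exact Or.inr h

/-- `g x g⁻¹ x⁻¹` lies in `V` when `g` fixes `x ^ 2`. -/
theorem comm_mem_four {g x : P} (hx : x ∈ A) (h : g * x ^ 2 * g⁻¹ = x ^ 2) :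
    g * x * g⁻¹ * x⁻¹ ∈ L.hA.four := by
  refine ⟨A.mul_mem (L.hA.conj_mem hx g) (A.inv_mem hx), ?_⟩
  rw [(show Commute (g * x * g⁻¹) x⁻¹ from
    L.hA.comm _ (L.hA.conj_mem hx g) _ (A.inv_mem hx)).mul_pow, conj_pow, h, inv_pow, mul_inv_cancel]

/-- The action on `A`: the pair `([g, a], [g, b])`. -/
def mu : Subgroup.centralizer ({y} : Set P) →* P × P where
  toFun g := ((g : P) * a * (g : P)⁻¹ * a⁻¹, (g : P) * b * (g : P)⁻¹ * b⁻¹)
  map_one' := by ext <;> simp
  map_mul' := by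
    rintro ⟨g, hg⟩ ⟨k, hk⟩
    rw [Subgroup.mem_centralizer_singleton_iff] at hg hk
    have key : ∀ x ∈ A, g * y = y * g → k * x ^ 2 * k⁻¹ = x ^ 2 →
        g * k * x * (g * k)⁻¹ * x⁻¹ = g * x * g⁻¹ * x⁻¹ * (k * x * k⁻¹ * x⁻¹) := by
      intro x hx hg' hk'
      have hv := L.comm_mem_four hx hk'
      calc g * k * x * (g * k)⁻¹ * x⁻¹
          = g * (k * x * k⁻¹ * x⁻¹) * g⁻¹ * (g * x * g⁻¹ * x⁻¹) := by group
        _ = (k * x * k⁻¹ * x⁻¹) * (g * x * g⁻¹ * x⁻¹) := by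
            rw [L.comm_four_iff.1 hg' _ hv, mul_inv_cancel_right]
        _ = _ := L.hA.comm _ hv.1 _ (A.mul_mem (L.hA.conj_mem hx g) (A.inv_mem hx))
    have hky : k * y * k⁻¹ = y := by rw [hk, mul_inv_cancel_right]
    exact Prod.ext (key a L.ha hg (by rw [L.a2, L.zc, mul_inv_cancel_right]))
      (key b L.hb hg (by rw [L.b2]; exact hky))

theorem mu_mem (g : Subgroup.centralizer ({y} : Set P)) :
    L.mu g ∈ L.hA.four.prod L.hA.four := by
  have hg : (g : P) * y = y * g := Subgroup.mem_centralizer_singleton_iff.1 g.2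
  exact ⟨L.comm_mem_four L.ha (by rw [L.a2, L.zc, mul_inv_cancel_right]),
    L.comm_mem_four L.hb (by rw [L.b2, hg, mul_inv_cancel_right])⟩

theorem mu_fst {g : Subgroup.centralizer ({y} : Set P)} :
    (g : P) * a * (g : P)⁻¹ = (L.mu g).1 * a := (inv_mul_cancel_right _ a).symm

theorem mu_snd {g : Subgroup.centralizer ({y} : Set P)} :
    (g : P) * b * (g : P)⁻¹ = (L.mu g).2 * b := (inv_mul_cancel_right _ b).symm

theorem mu_eq_one_iff (g : Subgroup.centralizer ({y} : Set P)) : L.mu g = 1 ↔ (g : P) ∈ cen A := by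
  constructor
  · intro h
    have h1 := congrArg Prod.fst h
    have h2 := congrArg Prod.snd h
    refine L.mem_cen_of_ab (Subgroup.mem_centralizer_singleton_iff.1 g.2) ?_ ?_
    · exact mul_inv_eq_iff_eq_mul.1 (mul_inv_eq_one.1 h1)
    · exact mul_inv_eq_iff_eq_mul.1 (mul_inv_eq_one.1 h2)
  · intro h
    have h1 := mem_cen.1 h a L.ha
    have h2 := mem_cen.1 h b L.hb
    ext
    · show (g : P) * a * (g : P)⁻¹ * a⁻¹ = 1
      rw [← h1, mul_inv_cancel_right, mul_inv_cancel]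
    · show (g : P) * b * (g : P)⁻¹ * b⁻¹ = 1
      rw [← h2, mul_inv_cancel_right, mul_inv_cancel]

/-- The element inverts no element of order four of `A`. -/
theorem noInv {g : Subgroup.centralizer ({y} : Set P)} (h1 : (L.mu g).1 ≠ z)
    (h2 : (L.mu g).2 ≠ y) (h3 : (L.mu g).1 * (L.mu g).2 ≠ z * y) {x : P} (hx : x ∈ A)
    (hi : (g : P) * x * (g : P)⁻¹ = x⁻¹) : x ^ 2 = 1 := by
  have hV := L.comm_four_iff.1 (Subgroup.mem_centralizer_singleton_iff.1 g.2)
  -- if `g w g⁻¹ = p w` and `g` inverts `w v`, then `p = w ^ 2`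
  have key : ∀ w ∈ A, ∀ p ∈ L.hA.four, (g : P) * w * (g : P)⁻¹ = p * w → ∀ v ∈ L.hA.four,
      x = w * v → p = w ^ 2 := by
    intro w hw p hp hgw v hv e
    have e1 : (g : P) * x * (g : P)⁻¹ = p * w * v := by
      rw [e, conj_mul.symm, hgw, hV v hv, mul_inv_cancel_right]
    have hp' : p⁻¹ = p := inv_eq_of_mul_eq_one_right (by rw [← pow_two]; exact hp.2)
    have e2 : p * w * v * (w * v) = 1 := by rw [← e1, hi, e, inv_mul_cancel]
    have e3 : p * (w * v) ^ 2 = 1 := by rw [pow_two, ← e2]; simp only [mul_assoc]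
    rw [L.mul_four_sq hw hv, mul_eq_one_iff_inv_eq] at e3
    rw [← e3, hp']
  obtain ⟨hm1, hm2⟩ := L.mu_mem g
  rcases L.cases_A hx with h | ⟨v, hv, e⟩ | ⟨v, hv, e⟩ | ⟨v, hv, e⟩
  · exact h.2
  · exact absurd ((key a L.ha _ hm1 L.mu_fst v hv e).trans L.a2) h1
  · exact absurd ((key b L.hb _ hm2 L.mu_snd v hv e).trans L.b2) h2
  · refine absurd ((key (a * b) (A.mul_mem L.ha L.hb) _ (mul_mem hm1 hm2) ?_ v hv e).trans L.ab_sq) h3
    rw [← conj_mul, L.mu_fst, L.mu_snd]
    calc (L.mu g).1 * a * ((L.mu g).2 * b) = (L.mu g).1 * (a * (L.mu g).2) * b := by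
          simp only [mul_assoc]
      _ = _ := by rw [L.hA.comm _ L.ha _ hm2.1]; simp only [mul_assoc]

variable (h2 : IsPGroup 2 P)
include h2

/-- An element of `P` inverting an element of `C` and no element of order four of `A`. -/
theorem sq_of_inv {u c : P} (hc : c ∈ cen A)
    (hno : ∀ x ∈ A, u * x * u⁻¹ = x⁻¹ → x ^ 2 = 1) (hi : u * c * u⁻¹ = c⁻¹) : c ^ 2 = 1 := by
  by_contra hne
  obtain ⟨i, h4, hn2, -⟩ := exists_pow_four h2 hne
  refine hn2 (hno _ (L.hA.mem_of_pow_four h2 (pow_mem hc _) h4) ?_)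
  rw [← conj_pow, hi, inv_pow]

/-- The commutator of `u` with an element of `C` centralized by `u ^ 2` lies in `V`. -/
theorem comm_four {u x : P} (hno : ∀ x ∈ A, u * x * u⁻¹ = x⁻¹ → x ^ 2 = 1) (hx : x ∈ cen A)
    (hux : u ^ 2 * x = x * u ^ 2) : u * x * u⁻¹ * x⁻¹ ∈ L.hA.four := by
  have hb : u * x * u⁻¹ * x⁻¹ ∈ cen A := mul_mem (L.hA.cen_conj hx u) (inv_mem hx)
  refine L.hA.mem_four_of_sq h2 hb (L.sq_of_inv h2 hb hno ?_)
  calc u * (u * x * u⁻¹ * x⁻¹) * u⁻¹ = u ^ 2 * x * (u ^ 2)⁻¹ * (u * x * u⁻¹)⁻¹ := by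
        simp only [pow_two]; group
    _ = x * (u * x * u⁻¹)⁻¹ := by rw [hux, mul_inv_cancel_right]
    _ = (u * x * u⁻¹ * x⁻¹)⁻¹ := by group

theorem sq_fixed {u x : P} (hno : ∀ x ∈ A, u * x * u⁻¹ = x⁻¹ → x ^ 2 = 1) (hx : x ∈ cen A)
    (hux : u ^ 2 * x = x * u ^ 2) : u * x ^ 2 * u⁻¹ = x ^ 2 := by
  have hb := L.comm_four h2 hno hx hux
  rw [← conj_pow, show u * x * u⁻¹ = (u * x * u⁻¹ * x⁻¹) * x from (inv_mul_cancel_right _ x).symm,
    (show Commute (u * x * u⁻¹ * x⁻¹) x from mem_cen.1 hx _ hb.1).mul_pow, hb.2, one_mul]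

/-- If some element of `P` centralizes only `V` in `A` and inverts no element of order four, then `A`
is its own centralizer. -/
theorem cen_le {u : P} (hu2 : u ^ 2 ∈ cen A)
    (hno : ∀ x ∈ A, u * x * u⁻¹ = x⁻¹ → x ^ 2 = 1)
    (hfix : ∀ x ∈ A, u * x * u⁻¹ = x → x ^ 2 = 1) : cen A ≤ A ∧ u ^ 2 ∈ L.hA.four := by
  have h4 : (u ^ 2) ^ 2 = 1 := by
    by_contra hne
    obtain ⟨i, h4, hn2, -⟩ := exists_pow_four h2 hne
    refine hn2 (hfix _ (L.hA.mem_of_pow_four h2 (pow_mem hu2 _) h4) ?_)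
    rw [← pow_mul, ((Commute.refl u).pow_right _).eq, mul_inv_cancel_right]
  have huV := L.hA.mem_four_of_sq h2 hu2 h4
  refine ⟨?_, huV⟩
  by_contra hle
  obtain ⟨x, hx, hxA⟩ := SetLike.not_le_iff_exists.1 hle
  have hex : ∃ k : ℕ, x ^ 2 ^ k ∈ A := by
    obtain ⟨k, hk⟩ := h2 x; exact ⟨k, by rw [hk]; exact one_mem A⟩
  classical
  obtain ⟨k, hk⟩ := Nat.exists_eq_succ_of_ne_zero (n := Nat.find hex) (fun h => hxA (by
    have := Nat.find_spec hex; rwa [h, pow_zero, pow_one] at this))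
  have hd : (x ^ 2 ^ k) ^ 2 ∈ A := by
    rw [← pow_mul, ← pow_succ]; have := Nat.find_spec hex; rwa [hk] at this
  refine Nat.find_min hex (show k < Nat.find hex by omega)
    (L.hA.mem_of_pow_four h2 (pow_mem hx _) ?_)
  rw [show (4 : ℕ) = 2 * 2 by rfl, pow_mul]
  exact hfix _ hd (L.sq_fixed h2 hno (pow_mem hx _) (mem_cen.1 (pow_mem hx _) _ huV.1))

theorem key {u : P} (huy : u * y = y * u) (huC : u ∉ cen A)
    (hno : ∀ x ∈ A, u * x * u⁻¹ = x⁻¹ → x ^ 2 = 1)
    (hnorm : ∀ g : P, g * u * g⁻¹ * u⁻¹ ∈ cen A) (hu2 : u ^ 2 ∈ Phi (cen A)) : False := by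
  have hV := L.comm_four_iff.1 huy
  have hu2C : u ^ 2 ∈ cen A := Phi_le _ hu2
  -- `u ^ 2` centralizes every `x` of `C` with `x ^ 2 ∈ A`
  have hcent : ∀ x ∈ cen A, x ^ 2 ∈ A → u ^ 2 * x = x * u ^ 2 := by
    intro x hx hxA
    have hx8 : x ^ 8 = 1 := by rw [show (8 : ℕ) = 2 * 4 by rfl, pow_mul, L.hA.pow_four _ hxA]
    have hle : Phi (cen A) ≤ Subgroup.centralizer ({x} : Set P) := by
      refine Phi_le_of_sq (fun n hn hnC g hg => ?_) fun w hw => ?_
      · rw [Subgroup.mem_centralizer_singleton_iff] at hn ⊢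
        have hv := L.hA.conj_small h2 hx hx8 (inv_mem hg)
        have e : x * g = g * (x * (x⁻¹ * (g⁻¹ * x * g⁻¹⁻¹))) := by group
        have hc : Commute n (x⁻¹ * (g⁻¹ * x * g⁻¹⁻¹)) := (mem_cen.1 hnC _ hv.1).symm
        have hc' : Commute n (g⁻¹ * x * g) := by
          have := (show Commute n x from hn).mul_right hc
          simpa using this
        calc g * n * g⁻¹ * x = g * (n * (g⁻¹ * x * g)) * g⁻¹ := by group
          _ = g * (g⁻¹ * x * g * n) * g⁻¹ := by rw [hc'.eq]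
          _ = x * (g * n * g⁻¹) := by group
      · rw [Subgroup.mem_centralizer_singleton_iff]
        have := MacWilliams.commute_sq (h2.to_subgroup _) (L.hA.tc h2) (x := ⟨x, hx⟩)
          (Subtype.ext hx8) ⟨w, hw⟩
        exact congrArg Subtype.val this
    exact Subgroup.mem_centralizer_singleton_iff.1 (hle hu2)
  -- `C` is abelian
  have hcomm : ∀ x ∈ cen A, ∀ w ∈ cen A, x * w = w * x := by
    refine L.hA.cen_comm h2 fun x hx w hw hxA hwA hx' hw' => ?_
    have hsq : ∀ t ∈ cen A, t ^ 2 ∈ A → t ∉ A → t ^ 2 ∉ L.hA.four := fun t ht _ ht' h4 =>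
      ht' (L.hA.mem_of_pow_four h2 ht (by rw [show (4 : ℕ) = 2 * 2 by rfl, pow_mul]; exact h4.2))
    have hfx := L.sq_fixed h2 hno hx (hcent x hx hxA)
    have hfw := L.sq_fixed h2 hno hw (hcent w hw hwA)
    -- the squares are congruent modulo `V`
    have hcong : (x ^ 2)⁻¹ * w ^ 2 ∈ L.hA.four := by
      by_contra hne
      have hfix : ∀ t ∈ A, ∀ s v : P, v ∈ L.hA.four → t = s * v → u * t * u⁻¹ = t →
          u * s = s * u := by
        intro t _ s v hv e ht
        rw [e, mul_inv_eq_iff_eq_mul, mul_assoc s v u, ← hV v hv, ← mul_assoc, ← mul_assoc] at ht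
        exact mul_right_cancel ht
      have hab : u * a = a * u → u * b = b * u → False := fun h h' => huC (L.mem_cen_of_ab huy h h')
      have h3 : u * (a * b) = a * b * u → u * a = a * u → u * b = b * u := by
        intro h h'
        refine mul_left_cancel (a := a) ?_
        calc a * (u * b) = u * (a * b) := by rw [← mul_assoc, ← h', mul_assoc]
          _ = a * b * u := h
          _ = a * (b * u) := mul_assoc a b u
      have h3' : u * (a * b) = a * b * u → u * b = b * u → u * a = a * u := by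
        intro h h'
        refine mul_right_cancel (b := b) ?_
        calc u * a * b = u * (a * b) := mul_assoc u a b
          _ = a * b * u := h
          _ = a * u * b := by rw [mul_assoc, ← h', mul_assoc]
      rcases L.cases_A hxA with h | ⟨v, hv, e⟩ | ⟨v, hv, e⟩ | ⟨v, hv, e⟩
      · exact hsq x hx hxA hx' h
      all_goals
        rcases L.cases_A hwA with h | ⟨v', hv', e'⟩ | ⟨v', hv', e'⟩ | ⟨v', hv', e'⟩
        · exact hsq w hw hwA hw' h
        all_goals
          first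
          | (refine hne ?_
             rw [e, e', mul_inv_rev, mul_assoc, inv_mul_cancel_left]
             exact mul_mem (inv_mem hv) hv')
          | (have k1 := hfix _ hxA _ _ hv e hfx
             have k2 := hfix _ hwA _ _ hv' e' hfw
             first
             | exact hab k1 k2
             | exact hab k2 k1
             | exact hab k1 (h3 k2 k1)
             | exact hab k2 (h3 k1 k2)
             | exact hab (h3' k2 k1) k1
             | exact hab (h3' k1 k2) k2)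
    have hv1 := L.hA.conj_small h2 (inv_mem hx)
      (by rw [inv_pow, show (8 : ℕ) = 2 * 4 by rfl, pow_mul, L.hA.pow_four _ hxA, inv_one]) hw
    refine L.hA.mem_of_pow_four h2 (mul_mem (inv_mem hx) hw) ?_
    have e : (x⁻¹ * w) ^ 2 = (x ^ 2)⁻¹ * (x⁻¹⁻¹ * (w * x⁻¹ * w⁻¹)) * w ^ 2 := by
      simp only [pow_two]; group
    rw [show (4 : ℕ) = 2 * 2 by rfl, pow_mul, e,
      L.hA.comm _ (A.inv_mem hxA) _ hv1.1, mul_assoc]
    exact (mul_mem hv1 hcong).2
  -- `u ^ 2` is a square in `C`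
  obtain ⟨d, hd, hd2⟩ : ∃ d ∈ cen A, d ^ 2 = u ^ 2 := by
    let Sq : Subgroup P :=
      { carrier := {t | ∃ d ∈ cen A, d ^ 2 = t}
        one_mem' := ⟨1, one_mem _, one_pow 2⟩
        mul_mem' := by
          rintro _ _ ⟨d, hd, rfl⟩ ⟨e, he, rfl⟩
          exact ⟨d * e, mul_mem hd he, (show Commute d e from hcomm d hd e he).mul_pow 2⟩
        inv_mem' := by
          rintro _ ⟨d, hd, rfl⟩
          exact ⟨d⁻¹, inv_mem hd, inv_pow d 2⟩ }
    refine Phi_le_of_sq (N := Sq) (fun n hn _ g _ => ?_) (fun x hx => ⟨x, hx, rfl⟩) hu2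
    obtain ⟨d, hd, rfl⟩ := hn
    exact ⟨g * d * g⁻¹, L.hA.cen_conj hd g, conj_pow⟩
  -- `u' = u d⁻¹` squares into `V`
  have hdV := L.comm_four h2 hno (inv_mem hd) (hcomm _ hu2C _ (inv_mem hd))
  set w := u * d⁻¹ with hw
  have hw2 : w ^ 2 ∈ L.hA.four := by
    have e : w ^ 2 = u * d⁻¹ * u⁻¹ * d⁻¹⁻¹ := by
      calc w ^ 2 = u * d⁻¹ * u⁻¹ * u ^ 2 * d⁻¹ := by rw [hw]; simp only [pow_two]; group
        _ = _ := by rw [← hd2]; simp only [pow_two]; group
    rw [e]; exact hdV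
  have hwy : w * y = y * w := by
    have := mem_cen.1 (inv_mem hd) y L.y_mem.1
    rw [hw, mul_assoc, ← this, ← mul_assoc, huy, mul_assoc]
  have hwA : ∀ x ∈ A, w * x * w⁻¹ = u * x * u⁻¹ := by
    intro x hx
    rw [hw, mul_inv_rev, inv_inv]
    calc u * d⁻¹ * x * (d * u⁻¹) = u * (d⁻¹ * (x * d)) * u⁻¹ := by simp only [mul_assoc]
      _ = _ := by rw [mem_cen.1 hd x hx, inv_mul_cancel_left]
  -- an involution in `w A`
  obtain ⟨t, htA, ht⟩ : ∃ t ∈ A, (w * t) ^ 2 = 1 := by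
    have hwV := L.comm_four_iff.1 hwy
    set g : Subgroup.centralizer ({y} : Set P) :=
      ⟨w, Subgroup.mem_centralizer_singleton_iff.2 hwy⟩ with hg
    obtain ⟨hp, hq⟩ := L.mu_mem g
    have hpa : w * a * w⁻¹ = (L.mu g).1 * a := L.mu_fst (g := g)
    have hqb : w * b * w⁻¹ = (L.mu g).2 * b := L.mu_snd (g := g)
    set p := (L.mu g).1
    set q := (L.mu g).2
    have form : ∀ x ∈ A, ∀ r ∈ L.hA.four, w * x * w⁻¹ = r * x →
        (w * x) ^ 2 = r * x ^ 2 * w ^ 2 ∧ (r * x ^ 2 = 1 → x ^ 2 = 1) := by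
      intro x hx r hr e
      refine ⟨?_, fun h1 => hno x hx ?_⟩
      · have hc : Commute x (w ^ 2) := L.hA.comm x hx _ hw2.1
        calc (w * x) ^ 2 = (w * x * w⁻¹) * (w ^ 2 * x) := by simp only [pow_two]; group
          _ = r * x * (x * w ^ 2) := by rw [e, ← hc.eq]
          _ = _ := by simp only [pow_two, mul_assoc]
      · rw [← hwA x hx, e]
        refine eq_inv_of_mul_eq_one_left ?_
        rw [mul_assoc, ← pow_two, h1]
    obtain ⟨fa, ga⟩ := form a L.ha p hp hpa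
    obtain ⟨fb, gb⟩ := form b L.hb q hq hqb
    obtain ⟨fab, gab⟩ := form (a * b) (A.mul_mem L.ha L.hb) (p * q) (mul_mem hp hq) (by
      rw [← conj_mul, hpa, hqb]
      calc p * a * (q * b) = p * (a * q) * b := by simp only [mul_assoc]
        _ = _ := by rw [L.hA.comm _ L.ha _ hq.1]; simp only [mul_assoc])
    rw [L.a2] at fa ga
    rw [L.b2] at fb gb
    rw [L.ab_sq] at fab gab
    have sA : p * z ∈ L.hA.four := mul_mem hp L.z_mem
    have sB : q * y ∈ L.hA.four := mul_mem hq L.y_mem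
    have sAB : p * q * (z * y) ∈ L.hA.four := mul_mem (mul_mem hp hq) (mul_mem L.z_mem L.y_mem)
    have ne1 : p * z ≠ 1 := fun h => L.z1 (ga h)
    have ne2 : q * y ≠ 1 := fun h => L.y1 (gb h)
    have ne3 : p * q * (z * y) ≠ 1 := fun h => L.zy_ne_one (gab h)
    have hprod : p * q * (z * y) = p * z * (q * y) := by
      calc p * q * (z * y) = p * (q * z) * y := by simp only [mul_assoc]
        _ = _ := by rw [L.zc q]; simp only [mul_assoc]
    have d12 : p * z ≠ q * y := fun h => ne3 (by rw [hprod, h, ← pow_two]; exact sB.2)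
    have d13 : p * z ≠ p * q * (z * y) := fun h => ne2 (by
      rw [hprod] at h; exact left_eq_mul.1 h)
    have d23 : q * y ≠ p * q * (z * y) := fun h => ne1 (by
      rw [hprod] at h; exact right_eq_mul.1 h)
    rcases L.cover sA sB sAB ne1 ne2 ne3 d12 d13 d23 hw2 with h | h | h | h
    · exact ⟨1, one_mem A, by rw [mul_one, h]⟩
    · exact ⟨a, L.ha, by rw [fa, h, ← pow_two]; exact sA.2⟩
    · exact ⟨b, L.hb, by rw [fb, h, ← pow_two]; exact sB.2⟩
    · exact ⟨a * b, A.mul_mem L.ha L.hb, by rw [fab, h, ← pow_two]; exact sAB.2⟩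
  set i := w * t with hi
  have hiu : u⁻¹ * i ∈ cen A := by
    rw [hi, hw, mul_assoc, inv_mul_cancel_left]; exact mul_mem (inv_mem hd) (L.hA.le_cen htA)
  have hiC : i ∉ cen A := fun h => huC (by
    rw [show u = i * (u⁻¹ * i)⁻¹ by group]; exact mul_mem h (inv_mem hiu))
  have hiy : i * y = y * i := by
    rw [hi, mul_assoc, L.hA.comm t htA y L.y_mem.1, ← mul_assoc, hwy, mul_assoc]
  -- every conjugate of `i` lies in `V i`
  have hconj : ∀ g : P, g * i * g⁻¹ * i⁻¹ ∈ L.hA.four := by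
    intro g
    set c := g * i * g⁻¹ * i⁻¹ with hc
    have hcC : c ∈ cen A := by
      have e : c = g * u * g⁻¹ * u⁻¹ *
          (u * (g * (u⁻¹ * i) * g⁻¹ * (u⁻¹ * i)⁻¹) * u⁻¹) := by rw [hc]; group
      rw [e]
      exact mul_mem (hnorm g)
        (L.hA.cen_conj (mul_mem (L.hA.cen_conj hiu g) (inv_mem hiu)) u)
    refine L.hA.mem_four_of_sq h2 hcC (L.sq_of_inv h2 hcC hno ?_)
    have h1 : (c * i) ^ 2 = 1 := by
      rw [show c * i = g * i * g⁻¹ from inv_mul_cancel_right _ i, conj_pow, ht, mul_one,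
        mul_inv_cancel]
    have h2i : i⁻¹ = i := inv_eq_of_mul_eq_one_right (by rw [← pow_two]; exact ht)
    have hicu : u * c * u⁻¹ = i * c * i⁻¹ := by
      have hcm := hcomm _ hiu _ hcC
      calc u * c * u⁻¹ = u * (c * (u⁻¹ * i)) * (u⁻¹ * i)⁻¹ * u⁻¹ := by group
        _ = u * (u⁻¹ * i * c) * (u⁻¹ * i)⁻¹ * u⁻¹ := by rw [hcm]
        _ = _ := by group
    rw [hicu, h2i]
    refine eq_inv_of_mul_eq_one_right ?_
    rw [← h1, pow_two]; simp only [mul_assoc]
  -- `V ⟨i⟩` is normal elementary of order eight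
  let E : Subgroup P :=
    { carrier := {x | x ∈ L.hA.four ∨ x * i ∈ L.hA.four}
      one_mem' := Or.inl (one_mem _)
      mul_mem' := by
        have hiV : ∀ v ∈ L.hA.four, i * v = v * i := L.comm_four_iff.1 hiy
        have hii : i * i = 1 := by rw [← pow_two]; exact ht
        rintro p q (hp | hp) (hq | hq)
        · exact Or.inl (mul_mem hp hq)
        · exact Or.inr (by rw [mul_assoc]; exact mul_mem hp hq)
        · refine Or.inr ?_
          rw [mul_assoc, ← hiV q hq, ← mul_assoc]; exact mul_mem hp hq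
        · refine Or.inl ?_
          have e : p * q = p * i * (q * i) := by
            calc p * q = p * i * (i * q) := by rw [mul_assoc, ← mul_assoc i i q, hii, one_mul]
              _ = p * i * (i * (q * i * i)) := by rw [mul_assoc q i i, hii, mul_one]
              _ = p * i * (q * i) := by
                  rw [← mul_assoc i (q * i) i, hiV _ hq, mul_assoc (q * i), hii, mul_one]
          rw [e]; exact mul_mem hp hq
      inv_mem' := by
        have hiV : ∀ v ∈ L.hA.four, i * v = v * i := L.comm_four_iff.1 hiy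
        rintro p (hp | hp)
        · exact Or.inl (inv_mem hp)
        · refine Or.inr ?_
          have e : p⁻¹ * i = i * (p * i)⁻¹ * i := by group
          rw [e, hiV _ (inv_mem hp), mul_assoc, ← pow_two, ht, mul_one]
          exact inv_mem hp }
  have hiV : ∀ v ∈ L.hA.four, i * v = v * i := L.comm_four_iff.1 hiy
  have hii : i * i = 1 := by rw [← pow_two]; exact ht
  have hEform : ∀ x ∈ E, ∃ v ∈ L.hA.four, x = v ∨ x = v * i := by
    rintro x (hx | hx)
    · exact ⟨x, hx, Or.inl rfl⟩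
    · exact ⟨x * i, hx, Or.inr (by rw [mul_assoc, hii, mul_one])⟩
  have hEn : E.Normal := by
    refine ⟨fun x hx g => ?_⟩
    obtain ⟨v, hv, rfl | rfl⟩ := hEform x hx
    · exact Or.inl (L.hA.four_conj hv g)
    · refine Or.inr ?_
      have e : g * (v * i) * g⁻¹ * i = g * v * g⁻¹ * (g * i * g⁻¹ * i⁻¹) * (i * i) := by group
      rw [e, hii, mul_one]; exact mul_mem (L.hA.four_conj hv g) (hconj g)
  have hVc : ∀ p ∈ L.hA.four, ∀ q ∈ L.hA.four, p * q = q * p := fun p hp q hq =>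
    L.hA.comm _ hp.1 _ hq.1
  have hEc : ∀ p ∈ E, ∀ q ∈ E, Commute p q := by
    intro p hp q hq
    obtain ⟨v, hv, rfl | rfl⟩ := hEform p hp <;> obtain ⟨v', hv', rfl | rfl⟩ := hEform q hq
    · exact hVc _ hv _ hv'
    · exact (show Commute p v' from hVc _ hv _ hv').mul_right (hiV _ hv).symm
    · exact (show Commute v q from hVc _ hv _ hv').mul_left (hiV _ hv')
    · exact ((show Commute v v' from hVc _ hv _ hv').mul_right (hiV _ hv).symm).mul_left
        ((show Commute i v' from hiV _ hv').mul_right (Commute.refl i))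
  have hE2 : ∀ p ∈ E, p ^ 2 = 1 := by
    intro p hp
    obtain ⟨v, hv, rfl | rfl⟩ := hEform p hp
    · exact hv.2
    · rw [(show Commute v i from (hiV _ hv).symm).mul_pow, hv.2, ht, one_mul]
  have hle : L.hA.four ≤ E := fun x hx => Or.inl hx
  have hiE : i ∈ E := Or.inr (by rw [hii]; exact one_mem _)
  have hcard := L.hS E hEn ⟨⟨fun p q => Subtype.ext (hEc p p.2 q q.2)⟩⟩ hE2
  classical
  haveI := Fintype.ofFinite E
  rw [Nat.card_eq_fintype_card] at hcard
  have h5 : ({1, ⟨z, hle L.z_mem⟩, ⟨y, hle L.y_mem⟩, ⟨z * y, hle (mul_mem L.z_mem L.y_mem)⟩,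
      ⟨i, hiE⟩} : Finset E).card = 5 := by
    have hne : ∀ v ∈ L.hA.four, v ≠ i := fun v hv e => hiC (L.hA.le_cen (e ▸ hv.1))
    rw [Finset.card_insert_of_notMem, Finset.card_insert_of_notMem, Finset.card_insert_of_notMem,
      Finset.card_pair]
    · exact fun e => hne _ (mul_mem L.z_mem L.y_mem) (congrArg Subtype.val e)
    · simp only [Finset.mem_insert, Finset.mem_singleton, Subtype.ext_iff, not_or]
      exact ⟨fun e => L.z1 (right_eq_mul.1 e), hne _ L.y_mem⟩
    · simp only [Finset.mem_insert, Finset.mem_singleton, Subtype.ext_iff, not_or]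
      exact ⟨L.yz.symm, fun e => L.y1 (left_eq_mul.1 e), hne _ L.z_mem⟩
    · simp only [Finset.mem_insert, Finset.mem_singleton, Subtype.ext_iff, not_or, Subgroup.coe_one]
      exact ⟨L.z1.symm, L.y1.symm, L.zy_ne_one.symm, hne _ (one_mem _)⟩
  have h' := Finset.card_le_univ ({1, ⟨z, hle L.z_mem⟩, ⟨y, hle L.y_mem⟩,
    ⟨z * y, hle (mul_mem L.z_mem L.y_mem)⟩, ⟨i, hiE⟩} : Finset E)
  omega

end Large

end CfsgLib.TwoGroups.MacWilliams
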