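import Mathlib
import Cfsg.Agent.Lib.TwoGroups.MacWilliams.Large

/-!
# Counting lemmas for the proof of MacWilliams' theorem

The image of a subgroup in the action on `A`, index two subgroups, and an identity in exponent two.
-/

set_option autoImplicit false
set_option linter.style.haveILetI false
set_option linter.unusedSectionVars false

namespace CfsgLib.TwoGroups.MacWilliams

universe u

variable {P : Type u} [Group P]

theorem exists_central_mem [Finite P] (h2 : IsPGroup 2 P) {N : Subgroup P} [N.Normal] (hN : N ≠ ⊥) :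
    ∃ z ∈ N, z ≠ 1 ∧ ∀ g : P, g * z = z * g := by
  let S : Set (Subgroup P) := {K | K.Normal ∧ K ≤ N ∧ K ≠ ⊥}
  obtain ⟨K, hK⟩ := (Set.toFinite S).exists_minimal ⟨N, inferInstance, le_rfl, hN⟩
  obtain ⟨hKn, hKN, hK0⟩ := hK.prop
  haveI := hKn
  have hlt := MaxFour.commutator_lt h2 (K := K) hK0
  have hbot : ⁅(⊤ : Subgroup P), K⁆ = ⊥ := by
    by_contra h
    exact hlt.not_ge (hK.2 ⟨inferInstance, hlt.le.trans hKN, h⟩ hlt.le)
  obtain ⟨⟨z, hz⟩, hz1⟩ := @exists_ne K ((Subgroup.nontrivial_iff_ne_bot K).2 hK0) 1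
  refine ⟨z, hKN hz, fun e => hz1 (Subtype.ext e), fun g => ?_⟩
  have := Subgroup.commutator_mem_commutator (Subgroup.mem_top g) hz
  rw [hbot, Subgroup.mem_bot] at this
  exact commutatorElement_eq_one_iff_mul_comm.1 this

/-- A proper subgroup has at most half the elements. -/
theorem two_mul_card_le [Finite P] {K M : Subgroup P} (h : K < M) :
    2 * Nat.card K ≤ Nat.card M := by
  obtain ⟨q, hq⟩ := Subgroup.card_dvd_of_le h.le
  rcases q with _ | _ | q
  · rw [mul_zero] at hq; exact absurd hq Nat.card_pos.ne'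
  · exact absurd (Subgroup.eq_of_le_of_card_ge h.le (by rw [hq]; simp)) h.ne
  · rw [hq, mul_comm 2]; exact Nat.mul_le_mul_left _ (by omega)

theorem card_le_two_mul [Finite P] {K : Subgroup P} (hK : ∀ x y : P, x ∉ K → y ∉ K → x * y ∈ K)
    (H : Subgroup P) : Nat.card H ≤ 2 * Nat.card ↥(H ⊓ K) := by
  classical
  rw [show 2 * Nat.card ↥(H ⊓ K) = Nat.card (Bool × ↥(H ⊓ K)) by
    rw [Nat.card_prod, Nat.card_eq_fintype_card (α := Bool), Fintype.card_bool]]
  by_cases hle : H ≤ K
  · exact Nat.card_le_card_of_injective (fun x => (true, ⟨x.1, x.2, hle x.2⟩))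
      fun x y e => Subtype.ext (congrArg (fun t : Bool × ↥(H ⊓ K) => t.2.1) e)
  · obtain ⟨h, hh, hhK⟩ := SetLike.not_le_iff_exists.1 hle
    refine Nat.card_le_card_of_injective (fun x : H =>
      if hx : (x : P) ∈ K then (true, ⟨x.1, x.2, hx⟩)
      else (false, ⟨h * x.1, H.mul_mem hh x.2, hK _ _ hhK hx⟩)) ?_
    intro x y e
    dsimp only at e
    split_ifs at e with hx hy hy
    · exact Subtype.ext (congrArg (fun t : Bool × ↥(H ⊓ K) => t.2.1) e)
    · exact absurd (congrArg Prod.fst e) Bool.noConfusion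
    · exact absurd (congrArg Prod.fst e) Bool.noConfusion
    · exact Subtype.ext (mul_left_cancel (congrArg (fun t : Bool × ↥(H ⊓ K) => t.2.1) e))

/-- A subgroup of order at least eight of a subgroup of order at most sixteen has index at most two. -/
theorem eq_or_index_two {K : Type u} [Group K] {U T : Subgroup K} [Finite T] (hUT : U ≤ T)
    (hT : Nat.card T ≤ 16) (h8 : 8 ≤ Nat.card U) :
    U = T ∨ (Nat.card U = 8 ∧ ∀ x ∈ T, ∀ y ∈ T, x ∉ U → y ∉ U → x * y ∈ U) := by
  by_cases h : U = T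
  · exact Or.inl h
  refine Or.inr ?_
  have hmul := Subgroup.card_mul_index (U.subgroupOf T)
  rw [Nat.card_congr (Subgroup.subgroupOfEquivOfLe hUT).toEquiv] at hmul
  have hne : (U.subgroupOf T).index ≠ 1 := fun e => h (le_antisymm hUT
    (Subgroup.subgroupOf_eq_top.1 (Subgroup.index_eq_one.1 e)))
  have h0 : (U.subgroupOf T).index ≠ 0 := Subgroup.index_ne_zero_of_finite
  have hi : (U.subgroupOf T).index = 2 := by
    by_contra h3
    have : 3 ≤ (U.subgroupOf T).index := by omega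
    have := Nat.mul_le_mul h8 this
    omega
  refine ⟨by rw [hi] at hmul; omega, fun x hx y hy hxU hyU => ?_⟩
  have := (Subgroup.mul_mem_iff_of_index_two hi (a := (⟨x, hx⟩ : T)) (b := ⟨y, hy⟩)).2
    (by simp [Subgroup.mem_subgroupOf, hxU, hyU])
  exact this

/-- If `g`, `g'`, `g g'` and their products with `x` are involutions, so is `x`. -/
theorem sq_eq_one_of_six {Q : Type u} [Group Q] {g g' x : Q} (h1 : g ^ 2 = 1) (h2 : g' ^ 2 = 1)
    (h3 : (g * g') ^ 2 = 1) (h4 : (g * x) ^ 2 = 1) (h5 : (g' * x) ^ 2 = 1)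
    (h6 : (g * g' * x) ^ 2 = 1) : x ^ 2 = 1 := by
  have i1 : g⁻¹ = g := inv_eq_of_mul_eq_one_right (by rw [← pow_two, h1])
  have i2 : g'⁻¹ = g' := inv_eq_of_mul_eq_one_right (by rw [← pow_two, h2])
  have inv : ∀ w : Q, (w * x) ^ 2 = 1 → w * x * w = x⁻¹ := fun w h => by
    refine eq_inv_of_mul_eq_one_left ?_
    rw [← h, pow_two, mul_assoc (w * x) w x]
  have e1 := inv g h4
  have e2 := inv g' h5
  have e3 := inv (g * g') h6
  have i3 : g * g' = g' * g := by
    have i12 : (g * g')⁻¹ = g * g' := inv_eq_of_mul_eq_one_right (by rw [← pow_two, h3])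
    rw [← i12, mul_inv_rev, i1, i2]
  have e4 : g * g' * x * (g * g') = x := by
    calc g * g' * x * (g * g') = g * (g' * x * g') * g := by rw [i3]; nth_rw 1 [← i3]; simp only [mul_assoc]
      _ = g * x⁻¹ * g := by rw [e2]
      _ = (g⁻¹ * x * g⁻¹)⁻¹ := by group
      _ = x := by rw [i1, e1, inv_inv]
  rw [e4] at e3
  rw [pow_two]
  nth_rw 2 [e3]
  exact mul_inv_cancel x

namespace Large

variable [Finite P] {A : Subgroup P} {a b z y : P} (L : Large A a b z y)
include L

theorem cen_le_centralizer : cen A ≤ Subgroup.centralizer ({y} : Set P) := fun _ hx =>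
  Subgroup.mem_centralizer_singleton_iff.2 (mem_cen.1 hx y L.y_mem.1).symm

/-- The image of `H` in the action on `A`. -/
def img (H : Subgroup P) : Subgroup (P × P) :=
  (H.subgroupOf (Subgroup.centralizer ({y} : Set P))).map L.mu

theorem mem_img {H : Subgroup P} {X : P × P} :
    X ∈ L.img H ↔ ∃ g : Subgroup.centralizer ({y} : Set P), (g : P) ∈ H ∧ L.mu g = X := Iff.rfl

theorem img_le (H : Subgroup P) : L.img H ≤ L.hA.four.prod L.hA.four := by
  rintro X hX
  obtain ⟨g, -, rfl⟩ := L.mem_img.1 hX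
  exact L.mu_mem g

theorem card_prod_le : Nat.card ↥(L.hA.four.prod L.hA.four) ≤ 16 := by
  rw [Nat.card_congr (Subgroup.prodEquiv _ _).toEquiv, Nat.card_prod]
  exact Nat.mul_le_mul (L.hA.card_four L.hS) (L.hA.card_four L.hS)

theorem card_img (H : Subgroup P) :
    Nat.card ↥(H ⊓ Subgroup.centralizer ({y} : Set P)) =
      Nat.card (L.img H) * Nat.card ↥(H ⊓ cen A) := by
  set K := H.subgroupOf (Subgroup.centralizer ({y} : Set P)) with hK
  have h1 : Nat.card K = Nat.card ↥(H ⊓ Subgroup.centralizer ({y} : Set P)) := by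
    rw [← Subgroup.card_map_of_injective (f := Subgroup.subtype _)
      (Subgroup.subtype_injective _) (K := K), hK, Subgroup.subgroupOf_map_subtype]
  have h2 : Nat.card (L.mu.comp K.subtype).ker = Nat.card ↥(H ⊓ cen A) := by
    refine Nat.card_congr
      { toFun := fun t => ⟨((t.1 : K) : Subgroup.centralizer ({y} : Set P)),
          t.1.2, (L.mu_eq_one_iff _).1 t.2⟩
        invFun := fun t => ⟨⟨⟨t.1, L.cen_le_centralizer t.2.2⟩, t.2.1⟩,
          (L.mu_eq_one_iff _).2 t.2.2⟩
        left_inv := fun _ => rfl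
        right_inv := fun _ => rfl }
  rw [← h1, ← Subgroup.card_mul_index (L.mu.comp K.subtype).ker, Subgroup.index_ker,
    MonoidHom.range_comp, Subgroup.range_subtype, h2, mul_comm, img]

theorem prod_comm {X Y : P × P} (hX : X ∈ L.hA.four.prod L.hA.four)
    (hY : Y ∈ L.hA.four.prod L.hA.four) : X * Y = Y * X :=
  Prod.ext (L.hA.comm _ hX.1.1 _ hY.1.1) (L.hA.comm _ hX.2.1 _ hY.2.1)

theorem prod_sq {X : P × P} (hX : X ∈ L.hA.four.prod L.hA.four) : X * X = 1 :=
  Prod.ext (by rw [Prod.fst_mul, ← pow_two]; exact hX.1.2)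
    (by rw [Prod.snd_mul, ← pow_two]; exact hX.2.2)

theorem mu_sq (g : Subgroup.centralizer ({y} : Set P)) : (g : P) ^ 2 ∈ cen A := by
  have h := (L.mu_eq_one_iff (g ^ 2)).1 (by rw [pow_two, map_mul]; exact L.prod_sq (L.mu_mem g))
  rwa [Subgroup.coe_pow] at h

theorem four_le_Phi_cen (h2 : IsPGroup 2 P) : L.hA.four ≤ Phi (cen A) := by
  intro v hv
  rcases L.four_cases hv with rfl | rfl | rfl | rfl
  · exact one_mem _
  · rw [← L.a2]; exact sq_mem_Phi h2 (L.hA.le_cen L.ha)
  · rw [← L.b2]; exact sq_mem_Phi h2 (L.hA.le_cen L.hb)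
  · rw [← L.ab_sq]; exact sq_mem_Phi h2 (L.hA.le_cen (A.mul_mem L.ha L.hb))

end Large

end CfsgLib.TwoGroups.MacWilliams
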