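import Mathlib
import Cfsg.Agent.Lib.TwoGroups.MacWilliams.Count

/-!
# No subgroup needs five generators when `A` has type `4 × 4`
-/

set_option autoImplicit false
set_option linter.style.haveILetI false
set_option linter.unusedSectionVars false

namespace CfsgLib.TwoGroups.MacWilliams

open scoped commutatorElement

universe u

variable {P : Type u} [Group P]

/-- A subgroup of the centralizer is at most four times as large as its Frattini subgroup. -/
theorem card_le_of_le_cen [Finite P] (h2 : IsPGroup 2 P) {A : Subgroup P} (hA : MaxFour A)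
    (hS : SmallElem P) {D : Subgroup P} (hD : D ≤ cen A) : Nat.card D ≤ 4 * Nat.card (Phi D) := by
  have hTC : TC D := (hA.tc h2).of_injective (Subgroup.inclusion hD) (Subgroup.inclusion_injective hD)
  have h4 : Nat.card {x : D // x ^ 2 = 1} ≤ 4 := by
    refine le_trans (Nat.card_le_card_of_injective (fun x : {x : D // x ^ 2 = 1} =>
      (⟨Subgroup.inclusion hD x.1, by rw [← map_pow, x.2, map_one]⟩ :
        {x : cen A // x ^ 2 = 1})) fun p q e =>
          Subtype.ext (Subgroup.inclusion_injective hD (congrArg Subtype.val e)))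
      (hA.card_sq_cen h2 hS)
  rw [card_eq_mul_index D, mul_comm 4]
  exact Nat.mul_le_mul_left _ ((index_frattini_le (h2.to_subgroup D) hTC).trans h4)

/-- The norm map of an element interchanging `y` and `z y`. -/
def nrm (h : P) (X : P × P) : P × P :=
  (h * X.1 * h⁻¹ * X.1, h * X.2 * h⁻¹ * (h * X.1 * h⁻¹) * X.2)

namespace Large

variable [Finite P] {A : Subgroup P} {a b z y : P} (L : Large A a b z y)
include L

/-- An element of `V` times `w` fixed by `g` shows the multiplier of `g` at `w` is trivial. -/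
theorem fix_coset {g : P} (hg : g * y = y * g) {w p v : P} (hv : v ∈ L.hA.four)
    (hgw : g * w * g⁻¹ = p * w) (hfix : g * (w * v) * g⁻¹ = w * v) : p = 1 := by
  rw [← conj_mul, L.comm_four_iff.1 hg v hv, mul_inv_cancel_right, hgw] at hfix
  exact mul_eq_right.1 (mul_right_cancel hfix)

theorem mu_ab (g : Subgroup.centralizer ({y} : Set P)) :
    (g : P) * (a * b) * (g : P)⁻¹ = (L.mu g).1 * (L.mu g).2 * (a * b) := by
  rw [← conj_mul, L.mu_fst, L.mu_snd]
  calc (L.mu g).1 * a * ((L.mu g).2 * b) = (L.mu g).1 * (a * (L.mu g).2) * b := by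
        simp only [mul_assoc]
    _ = _ := by rw [L.hA.comm _ L.ha _ (L.mu_mem g).2.1]; simp only [mul_assoc]

theorem hy (g : Subgroup.centralizer ({y} : Set P)) : (g : P) * y = y * g :=
  Subgroup.mem_centralizer_singleton_iff.1 g.2

theorem noFix {g : Subgroup.centralizer ({y} : Set P)} (h1 : (L.mu g).1 ≠ 1)
    (h2 : (L.mu g).2 ≠ 1) (h3 : (L.mu g).1 * (L.mu g).2 ≠ 1) {x : P} (hx : x ∈ A)
    (hi : (g : P) * x * (g : P)⁻¹ = x) : x ^ 2 = 1 := by
  rcases L.cases_A hx with h | ⟨v, hv, rfl⟩ | ⟨v, hv, rfl⟩ | ⟨v, hv, rfl⟩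
  · exact h.2
  · exact absurd (L.fix_coset (L.hy g) hv L.mu_fst hi) h1
  · exact absurd (L.fix_coset (L.hy g) hv L.mu_snd hi) h2
  · exact absurd (L.fix_coset (L.hy g) hv (L.mu_ab g) hi) h3

variable (h2 : IsPGroup 2 P)
include h2

/-- A lift of an admissible element with square in `Phi C` is impossible. -/
theorem key_lift {g : Subgroup.centralizer ({y} : Set P)} (hne : L.mu g ≠ 1)
    (h1 : (L.mu g).1 ≠ z) (hb : (L.mu g).2 ≠ y) (h3 : (L.mu g).1 * (L.mu g).2 ≠ z * y)
    (hnorm : ∀ k : P, k * (g : P) * k⁻¹ * (g : P)⁻¹ ∈ cen A)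
    (hsq : (g : P) ^ 2 ∈ Phi (cen A)) : False :=
  L.key h2 (L.hy g) (fun hc => hne ((L.mu_eq_one_iff g).2 hc))
    (fun _ hx hi => L.noInv h1 hb h3 hx hi) hnorm hsq

theorem omega_lift {g : Subgroup.centralizer ({y} : Set P)} (hg : L.mu g = (y, z * y)) :
    cen A ≤ A ∧ (g : P) ^ 2 ∈ L.hA.four := by
  have e : y * (z * y) = z := by
    rw [← mul_assoc, ← L.zy, mul_assoc, ← pow_two, L.y_mem.2, mul_one]
  refine L.cen_le h2 (L.mu_sq g)
    (fun _ hx hi => L.noInv (by rw [hg]; exact L.yz)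
      (by rw [hg]; exact fun h => L.z1 (mul_eq_right.1 h))
      (by rw [hg]; show y * (z * y) ≠ z * y; rw [e]; exact fun h => L.y1 (left_eq_mul.1 h)) hx hi)
    (fun _ hx hi => L.noFix (by rw [hg]; exact L.y1) (by rw [hg]; exact L.zy_ne_one)
      (by rw [hg]; show y * (z * y) ≠ 1; rw [e]; exact L.z1) hx hi)

/-- The element `(1, z)` is normalised by every element of the group. -/
theorem norm_e0 {g : Subgroup.centralizer ({y} : Set P)} (hg : L.mu g = (1, z)) (k : P) :
    k * (g : P) * k⁻¹ * (g : P)⁻¹ ∈ cen A := by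
  have ga : (g : P) * a * (g : P)⁻¹ = a := by rw [L.mu_fst, hg]; exact one_mul a
  have gb : (g : P) * b * (g : P)⁻¹ = z * b := by rw [L.mu_snd, hg]
  have gab : (g : P) * (a * b) * (g : P)⁻¹ = z * (a * b) := by
    rw [L.mu_ab, hg]; show 1 * z * (a * b) = _; rw [one_mul]
  have gV := L.comm_four_iff.1 (L.hy g)
  have onV : ∀ v ∈ L.hA.four, k * (g : P) * k⁻¹ * v = v * (k * (g : P) * k⁻¹) := fun v hv => by
    have hv' : k⁻¹ * v * k ∈ L.hA.four := by simpa using L.hA.four_conj hv k⁻¹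
    calc k * (g : P) * k⁻¹ * v = k * ((g : P) * (k⁻¹ * v * k)) * k⁻¹ := by group
      _ = k * (k⁻¹ * v * k * (g : P)) * k⁻¹ := by rw [gV _ hv']
      _ = _ := by group
  -- conjugates act on `x` as `g` acts on `k⁻¹ x k`
  have act : ∀ x r : P, r ∈ L.hA.four → (g : P) * (k⁻¹ * x * k) * (g : P)⁻¹ = r * (k⁻¹ * x * k) →
      (k * (g : P) * k⁻¹) * x * (k * (g : P) * k⁻¹)⁻¹ = k * r * k⁻¹ * x := fun x r _ e => by
    calc (k * (g : P) * k⁻¹) * x * (k * (g : P) * k⁻¹)⁻¹
        = k * ((g : P) * (k⁻¹ * x * k) * (g : P)⁻¹) * k⁻¹ := by group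
      _ = _ := by rw [e]; group
  have hz : k * z * k⁻¹ = z := by rw [L.zc, mul_inv_cancel_right]
  have gv : ∀ w r v : P, v ∈ L.hA.four → (g : P) * w * (g : P)⁻¹ = r * w →
      (g : P) * (w * v) * (g : P)⁻¹ = r * (w * v) := fun w r v hv e => by
    rw [← conj_mul, e, gV v hv, mul_inv_cancel_right, mul_assoc]
  have hA' : k⁻¹ * a * k ∈ A := by simpa using L.hA.conj_mem L.ha k⁻¹
  have hB' : k⁻¹ * b * k ∈ A := by simpa using L.hA.conj_mem L.hb k⁻¹
  have ca : (k * (g : P) * k⁻¹) * a * (k * (g : P) * k⁻¹)⁻¹ = a := by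
    obtain ⟨v, hv, e⟩ := L.eq_a_mul hA' (by
      rw [show k⁻¹ * a * k = k⁻¹ * a * k⁻¹⁻¹ by rw [inv_inv], conj_pow, L.a2, L.zc,
        mul_inv_cancel_right])
    rw [act a 1 (one_mem _) (by rw [e]; exact gv a 1 v hv (by rw [ga, one_mul])), mul_one,
      mul_inv_cancel, one_mul]
  have cb : (k * (g : P) * k⁻¹) * b * (k * (g : P) * k⁻¹)⁻¹ = z * b := by
    have hb2 : (k⁻¹ * b * k) ^ 2 = k⁻¹ * y * k⁻¹⁻¹ := by
      rw [show k⁻¹ * b * k = k⁻¹ * b * k⁻¹⁻¹ by rw [inv_inv], conj_pow, L.b2]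
    rw [act b z L.z_mem ?_, hz]
    rcases L.cases_A hB' with h | ⟨v, hv, e⟩ | ⟨v, hv, e⟩ | ⟨v, hv, e⟩
    · exact absurd (conj_eq_one_iff.1 (hb2.symm.trans h.2)) L.y1
    · exfalso
      rw [e, L.mul_four_sq L.ha hv, L.a2] at hb2
      refine L.yz ?_
      calc y = k * (k⁻¹ * y * k⁻¹⁻¹) * k⁻¹ := by group
        _ = z := by rw [← hb2, hz]
    · rw [e]; exact gv b z v hv gb
    · rw [e]; exact gv (a * b) z v hv gab
  let g' : Subgroup.centralizer ({y} : Set P) :=
    ⟨k * (g : P) * k⁻¹, Subgroup.mem_centralizer_singleton_iff.2 (onV y L.y_mem)⟩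
  have hg' : L.mu g' = L.mu g := by
    rw [hg]
    refine Prod.ext ?_ ?_
    · show k * (g : P) * k⁻¹ * a * (k * (g : P) * k⁻¹)⁻¹ * a⁻¹ = 1
      rw [ca, mul_inv_cancel]
    · show k * (g : P) * k⁻¹ * b * (k * (g : P) * k⁻¹)⁻¹ * b⁻¹ = z
      rw [cb, mul_inv_cancel_right]
  have := (L.mu_eq_one_iff (g' * g⁻¹)).1 (by rw [map_mul, map_inv, hg', mul_inv_cancel])
  rwa [Subgroup.coe_mul, Subgroup.coe_inv] at this

theorem e0_false {g : Subgroup.centralizer ({y} : Set P)} (hg : L.mu g = (1, z))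
    (hsq : (g : P) ^ 2 ∈ Phi (cen A)) : False :=
  L.key_lift h2 (by rw [hg]; exact fun h => L.z1 (congrArg Prod.snd h))
    (by rw [hg]; exact L.z1.symm) (by rw [hg]; exact L.yz.symm)
    (by rw [hg]; show 1 * z ≠ z * y; rw [one_mul]; exact fun h => L.y1 (left_eq_mul.1 h))
    (L.norm_e0 h2 hg) hsq

/-- The bounds shared by all cases. -/
theorem counts (H : Subgroup P) :
    Nat.card ↥(H ⊓ Subgroup.centralizer ({y} : Set P)) ≤
        Nat.card (L.img H) * (4 * Nat.card (Phi (H ⊓ cen A))) ∧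
      Phi (H ⊓ cen A) ≤ Phi H ⊓ cen A := by
  refine ⟨?_, le_inf (Phi_mono h2 inf_le_left) ((Phi_le _).trans inf_le_right)⟩
  rw [L.card_img H]
  exact Nat.mul_le_mul_left _ (card_le_of_le_cen h2 L.hA L.hS inf_le_right)

/-- Either the image is everything or the squares of the subgroup lie in `Phi D`. -/
theorem inside (H : Subgroup P) (hH : H ≤ Subgroup.centralizer ({y} : Set P))
    (hbad : 32 * Nat.card (Phi H) ≤ Nat.card H) :
    L.img H = L.hA.four.prod L.hA.four ∨
      ((∀ X ∈ L.hA.four.prod L.hA.four, ∀ Y ∈ L.hA.four.prod L.hA.four,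
          X ∉ L.img H → Y ∉ L.img H → X * Y ∈ L.img H) ∧
        Nat.card (L.img H) = 8 ∧ Phi H ≤ Phi (H ⊓ cen A)) := by
  obtain ⟨hc, hle⟩ := L.counts h2 H
  rw [inf_eq_left.2 hH] at hc
  have hle' : Phi (H ⊓ cen A) ≤ Phi H := hle.trans inf_le_left
  have hcard := Subgroup.card_le_of_le hle'
  have h8 : 8 ≤ Nat.card (L.img H) := by
    by_contra h
    have h7 : Nat.card (L.img H) ≤ 7 := by omega
    have := Nat.mul_le_mul h7 (Nat.mul_le_mul_left 4 hcard)
    have hpos : 0 < Nat.card (Phi H) := Nat.card_pos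
    omega
  rcases eq_or_index_two (L.img_le H) L.card_prod_le h8 with h | ⟨h, h'⟩
  · exact Or.inl h
  · refine Or.inr ⟨h', h, (Subgroup.eq_of_le_of_card_ge hle' ?_).ge⟩
    rw [h] at hc
    omega

theorem case_fixed (hall : ∀ g : P, g * y = y * g) (H : Subgroup P)
    (hbad : 32 * Nat.card (Phi H) ≤ Nat.card H) : False := by
  have hnorm : ∀ (g : Subgroup.centralizer ({y} : Set P)) (k : P),
      k * (g : P) * k⁻¹ * (g : P)⁻¹ ∈ cen A := by
    intro g k
    let k' : Subgroup.centralizer ({y} : Set P) :=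
      ⟨k, Subgroup.mem_centralizer_singleton_iff.2 (hall k)⟩
    have := (L.mu_eq_one_iff (k' * g * k'⁻¹ * g⁻¹)).1 (by
      rw [map_mul, map_mul, map_mul, map_inv, map_inv, L.prod_comm (L.mu_mem k') (L.mu_mem g)]
      group)
    simpa only [Subgroup.coe_mul, Subgroup.coe_inv] using this
  have hH : H ≤ Subgroup.centralizer ({y} : Set P) := fun g _ =>
    Subgroup.mem_centralizer_singleton_iff.2 (hall g)
  have hyz : y * (z * y) = z := by
    rw [← mul_assoc, ← L.zy, mul_assoc, ← pow_two, L.y_mem.2, mul_one]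
  have hzyy : z * y * z = y := by
    rw [L.zy, mul_assoc, ← pow_two, L.z_mem.2, mul_one]
  rcases L.inside h2 H hH hbad with htop | ⟨htwo, -, hPhi⟩
  · obtain ⟨g, -, hg⟩ := L.mem_img.1
      (show (y, z * y) ∈ L.img H by rw [htop]; exact ⟨L.y_mem, mul_mem L.z_mem L.y_mem⟩)
    exact L.key_lift h2 (by rw [hg]; exact fun h => L.y1 (congrArg Prod.fst h))
      (by rw [hg]; exact L.yz) (by rw [hg]; exact fun h => L.z1 (mul_eq_right.1 h))
      (by rw [hg]; show y * (z * y) ≠ z * y; rw [hyz]; exact fun h => L.y1 (left_eq_mul.1 h))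
      (hnorm g) (L.four_le_Phi_cen h2 (L.omega_lift h2 hg).2)
  · have hC : ∀ g : Subgroup.centralizer ({y} : Set P), (g : P) ∈ H →
        (g : P) ^ 2 ∈ Phi (cen A) := fun g hg =>
      Phi_mono h2 inf_le_right (hPhi (sq_mem_Phi h2 hg))
    have hzV := L.z_mem
    have hyV := L.y_mem
    have hzyV := mul_mem L.z_mem L.y_mem
    have m0 : ((1 : P), z) ∈ L.hA.four.prod L.hA.four := ⟨one_mem _, hzV⟩
    have m1 : (y, (1 : P)) ∈ L.hA.four.prod L.hA.four := ⟨hyV, one_mem _⟩
    have m2 : (z * y, z * y) ∈ L.hA.four.prod L.hA.four := ⟨hzyV, hzyV⟩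
    have m3 : (y, z * y) ∈ L.hA.four.prod L.hA.four := ⟨hyV, hzyV⟩
    have m4 : (z * y, z) ∈ L.hA.four.prod L.hA.four := ⟨hzyV, hzV⟩
    have hey : y * y = 1 := by rw [← pow_two]; exact hyV.2
    have hez : z * z = 1 := by rw [← pow_two]; exact hzV.2
    by_cases c0 : ((1 : P), z) ∈ L.img H
    · obtain ⟨g, hgH, hg⟩ := L.mem_img.1 c0
      exact L.e0_false h2 hg (hC g hgH)
    by_cases c1 : (y, (1 : P)) ∈ L.img H
    · obtain ⟨g, hgH, hg⟩ := L.mem_img.1 c1
      exact L.key_lift h2 (by rw [hg]; exact fun h => L.y1 (congrArg Prod.fst h))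
        (by rw [hg]; exact L.yz) (by rw [hg]; exact L.y1.symm)
        (by rw [hg]; show y * 1 ≠ z * y; rw [mul_one]; exact fun h => L.z1 (right_eq_mul.1 h))
        (hnorm g) (hC g hgH)
    by_cases c2 : (z * y, z * y) ∈ L.img H
    · obtain ⟨g, hgH, hg⟩ := L.mem_img.1 c2
      exact L.key_lift h2 (by rw [hg]; exact fun h => L.zy_ne_one (congrArg Prod.fst h))
        (by rw [hg]; exact fun h => L.y1 (mul_eq_left.1 h))
        (by rw [hg]; exact fun h => L.z1 (mul_eq_right.1 h))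
        (by rw [hg]; exact fun h => L.zy_ne_one (mul_eq_left.1 h))
        (hnorm g) (hC g hgH)
    by_cases c3 : (y, z * y) ∈ L.img H
    · obtain ⟨g, hgH, hg⟩ := L.mem_img.1 c3
      exact L.key_lift h2 (by rw [hg]; exact fun h => L.y1 (congrArg Prod.fst h))
        (by rw [hg]; exact L.yz) (by rw [hg]; exact fun h => L.z1 (mul_eq_right.1 h))
        (by rw [hg]; show y * (z * y) ≠ z * y; rw [hyz]; exact fun h => L.y1 (left_eq_mul.1 h))
        (hnorm g) (hC g hgH)
    by_cases c4 : (z * y, z) ∈ L.img H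
    · obtain ⟨g, hgH, hg⟩ := L.mem_img.1 c4
      exact L.key_lift h2 (by rw [hg]; exact fun h => L.zy_ne_one (congrArg Prod.fst h))
        (by rw [hg]; exact fun h => L.y1 (mul_eq_left.1 h))
        (by rw [hg]; exact L.yz.symm)
        (by rw [hg]; show z * y * z ≠ z * y; exact fun h => L.z1 (mul_eq_left.1 h))
        (hnorm g) (hC g hgH)
    -- the product of three non-members is the product of two non-members
    have p34 := htwo _ m3 _ m4 c3 c4
    have p01 := htwo _ m0 _ m1 c0 c1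
    refine c2 ?_
    have e : (z * y, z * y) = ((1 : P), z) * (y, 1) * ((y, z * y) * (z * y, z)) := by
      refine Prod.ext ?_ ?_
      · show z * y = 1 * y * (y * (z * y))
        rw [one_mul, hyz, L.zy]
      · show z * y = z * 1 * (z * y * z)
        rw [mul_one, hzyy]
    rw [e]; exact mul_mem p01 p34

theorem conj_centralizer (k : P) {g : P} (hg : g ∈ Subgroup.centralizer ({y} : Set P)) :
    k * g * k⁻¹ ∈ Subgroup.centralizer ({y} : Set P) := by
  rw [Subgroup.mem_centralizer_singleton_iff] at hg ⊢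
  have gV := L.comm_four_iff.1 hg
  have hv' : k⁻¹ * y * k ∈ L.hA.four := by simpa using L.hA.four_conj L.y_mem k⁻¹
  calc k * g * k⁻¹ * y = k * (g * (k⁻¹ * y * k)) * k⁻¹ := by group
    _ = k * (k⁻¹ * y * k * g) * k⁻¹ := by rw [gV _ hv']
    _ = _ := by group

theorem mu_conj {h : P} (hh : h * y * h⁻¹ = z * y) (g : Subgroup.centralizer ({y} : Set P))
    (g' : Subgroup.centralizer ({y} : Set P)) (hg' : (g' : P) = h * (g : P) * h⁻¹) :
    L.mu g' = (h * (L.mu g).1 * h⁻¹, h * (L.mu g).2 * h⁻¹ * (h * (L.mu g).1 * h⁻¹)) := by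
  obtain ⟨hp, hq⟩ := L.mu_mem g
  obtain ⟨hp', hq'⟩ := L.mu_mem g'
  have gV := L.comm_four_iff.1 (L.hy g')
  have act : ∀ x r : P, (g : P) * x * (g : P)⁻¹ = r * x →
      (g' : P) * (h * x * h⁻¹) * (g' : P)⁻¹ = h * r * h⁻¹ * (h * x * h⁻¹) := fun x r e => by
    calc (g' : P) * (h * x * h⁻¹) * (g' : P)⁻¹ = h * ((g : P) * x * (g : P)⁻¹) * h⁻¹ := by
          rw [hg']; group
      _ = _ := by rw [e]; group
  obtain ⟨v, hv, ea⟩ := L.eq_a_mul (L.hA.conj_mem L.ha h) (by
    rw [conj_pow, L.a2, L.zc, mul_inv_cancel_right])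
  have ha := act a _ L.mu_fst
  rw [ea, ← conj_mul, gV v hv, mul_inv_cancel_right, L.mu_fst, mul_assoc, ← ea] at ha
  have e1 : (L.mu g').1 = h * (L.mu g).1 * h⁻¹ := mul_right_cancel ha
  obtain ⟨w, hw, eb⟩ : ∃ w ∈ L.hA.four, h * b * h⁻¹ = a * b * w := by
    have hsq : (h * b * h⁻¹) ^ 2 = z * y := by rw [conj_pow, L.b2, hh]
    rcases L.cases_A (L.hA.conj_mem L.hb h) with h' | ⟨v, hv, e⟩ | ⟨v, hv, e⟩ | h'
    · exact absurd (hsq.symm.trans h'.2) L.zy_ne_one
    · rw [e, L.mul_four_sq L.ha hv, L.a2] at hsq; exact absurd (left_eq_mul.1 hsq) L.y1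
    · rw [e, L.mul_four_sq L.hb hv, L.b2] at hsq; exact absurd (right_eq_mul.1 hsq) L.z1
    · exact h'
  have hb := act b _ L.mu_snd
  rw [eb, ← conj_mul, gV w hw, mul_inv_cancel_right, L.mu_ab, mul_assoc, ← eb] at hb
  have e2 : (L.mu g').1 * (L.mu g').2 = h * (L.mu g).2 * h⁻¹ := mul_right_cancel hb
  refine Prod.ext e1 ?_
  show (L.mu g').2 = _
  rw [← e2, ← e1, L.hA.comm _ hp'.1 _ hq'.1, mul_assoc, ← pow_two, hp'.2, mul_one]

theorem nrm_mu {h : P} (hh : h * y * h⁻¹ = z * y) (g g' : Subgroup.centralizer ({y} : Set P))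
    (hg' : (g' : P) = h * (g : P) * h⁻¹) : nrm h (L.mu g) = L.mu g' * L.mu g := by
  rw [L.mu_conj h2 hh g g' hg']; rfl

/-- The elementary facts about the norm map on `V × V`. -/
theorem conj_cases {h : P} (hh : h * y * h⁻¹ = z * y) {v : P} (hv : v ∈ L.hA.four) :
    ((v = 1 ∨ v = z) ∧ h * v * h⁻¹ * v = 1) ∨ ((v = y ∨ v = z * y) ∧ h * v * h⁻¹ * v = z) := by
  have hey : y * y = 1 := by rw [← pow_two]; exact L.y_mem.2
  have hez : z * z = 1 := by rw [← pow_two]; exact L.z_mem.2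
  rcases L.four_cases hv with e | e | e | e <;> rw [e]
  · exact Or.inl ⟨Or.inl rfl, by group⟩
  · exact Or.inl ⟨Or.inr rfl, by rw [L.zc h, mul_inv_cancel_right, hez]⟩
  · exact Or.inr ⟨Or.inl rfl, by rw [hh, mul_assoc, hey, mul_one]⟩
  · refine Or.inr ⟨Or.inr rfl, ?_⟩
    rw [← conj_mul, L.zc h, mul_inv_cancel_right, hh, ← mul_assoc z z y, hez, one_mul,
      ← mul_assoc y z y, ← L.zy, mul_assoc z y y, hey, mul_one]

theorem nrm_mem {h : P} {X : P × P} (hX : X ∈ L.hA.four.prod L.hA.four) :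
    nrm h X ∈ L.hA.four.prod L.hA.four :=
  ⟨mul_mem (L.hA.four_conj hX.1 h) hX.1,
    mul_mem (mul_mem (L.hA.four_conj hX.2 h) (L.hA.four_conj hX.1 h)) hX.2⟩

theorem nrm_mul {h : P} {X Y : P × P} (hX : X ∈ L.hA.four.prod L.hA.four)
    (hY : Y ∈ L.hA.four.prod L.hA.four) : nrm h (X * Y) = nrm h X * nrm h Y := by
  have hc : ∀ u ∈ L.hA.four, ∀ v ∈ L.hA.four, ∀ w : P, u * (v * w) = v * (u * w) :=
    fun u hu v hv w => by rw [← mul_assoc, L.hA.comm u hu.1 v hv.1, mul_assoc]
  have p1 := L.hA.four_conj hX.1 h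
  have p2 := L.hA.four_conj hY.1 h
  have q1 := L.hA.four_conj hX.2 h
  have q2 := L.hA.four_conj hY.2 h
  refine Prod.ext ?_ ?_
  · show h * (X.1 * Y.1) * h⁻¹ * (X.1 * Y.1) = h * X.1 * h⁻¹ * X.1 * (h * Y.1 * h⁻¹ * Y.1)
    rw [← conj_mul]
    generalize h * X.1 * h⁻¹ = s1 at p1 ⊢
    generalize h * Y.1 * h⁻¹ = s2 at p2 ⊢
    simp only [mul_assoc]
    rw [hc s2 p2 X.1 hX.1]
  · show h * (X.2 * Y.2) * h⁻¹ * (h * (X.1 * Y.1) * h⁻¹) * (X.2 * Y.2) =
      h * X.2 * h⁻¹ * (h * X.1 * h⁻¹) * X.2 * (h * Y.2 * h⁻¹ * (h * Y.1 * h⁻¹) * Y.2)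
    rw [← conj_mul, ← conj_mul]
    generalize h * X.1 * h⁻¹ = s1 at p1 ⊢
    generalize h * Y.1 * h⁻¹ = s2 at p2 ⊢
    generalize h * X.2 * h⁻¹ = t1 at q1 ⊢
    generalize h * Y.2 * h⁻¹ = t2 at q2 ⊢
    simp only [mul_assoc]
    rw [hc t2 q2 s1 p1, hc s2 p2 X.2 hX.2, hc t2 q2 X.2 hX.2]

theorem nrm_nrm {h : P} (hh : h * y * h⁻¹ = z * y) {X : P × P}
    (hX : X ∈ L.hA.four.prod L.hA.four) : nrm h (nrm h X) = 1 := by
  obtain ⟨r, hr, er⟩ : ∃ r, (r = 1 ∨ r = z) ∧ h * X.1 * h⁻¹ * X.1 = r := by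
    rcases L.conj_cases h2 hh hX.1 with ⟨-, e⟩ | ⟨-, e⟩
    · exact ⟨1, Or.inl rfl, e⟩
    · exact ⟨z, Or.inr rfl, e⟩
  obtain ⟨r', hr', er'⟩ : ∃ r, (r = 1 ∨ r = z) ∧ h * X.2 * h⁻¹ * X.2 = r := by
    rcases L.conj_cases h2 hh hX.2 with ⟨-, e⟩ | ⟨-, e⟩
    · exact ⟨1, Or.inl rfl, e⟩
    · exact ⟨z, Or.inr rfl, e⟩
  have p1 := L.hA.four_conj hX.1 h
  have e2 : (nrm h X).2 = r' * (h * X.1 * h⁻¹) := by
    show h * X.2 * h⁻¹ * (h * X.1 * h⁻¹) * X.2 = _
    rw [mul_assoc, L.hA.comm _ p1.1 _ hX.2.1, ← mul_assoc, er']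
  have hfix : ∀ r : P, r = 1 ∨ r = z → h * r * h⁻¹ = r := by
    rintro r (rfl | rfl)
    · group
    · rw [L.zc, mul_inv_cancel_right]
  have hsq : ∀ r : P, r = 1 ∨ r = z → r * r = 1 := by
    rintro r (rfl | rfl)
    · exact one_mul 1
    · rw [← pow_two]; exact L.z_mem.2
  refine Prod.ext ?_ ?_
  · show h * (nrm h X).1 * h⁻¹ * (nrm h X).1 = 1
    rw [show (nrm h X).1 = r from er, hfix r hr, hsq r hr]
  · show h * (nrm h X).2 * h⁻¹ * (h * (nrm h X).1 * h⁻¹) * (nrm h X).2 = 1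
    rw [show (nrm h X).1 = r from er, hfix r hr, e2]
    have e3 : h * (r' * (h * X.1 * h⁻¹)) * h⁻¹ = r' * X.1 := by
      rw [← conj_mul, hfix r' hr']
      congr 1
      have : h * (h * X.1 * h⁻¹) * h⁻¹ * (h * X.1 * h⁻¹) = h * X.1 * h⁻¹ * X.1 := by
        rw [conj_mul, er, hfix r hr]
      rw [L.hA.comm _ p1.1 _ hX.1.1] at this
      exact mul_right_cancel this
    rw [e3]
    have hrV : r ∈ L.hA.four := er ▸ mul_mem p1 hX.1
    have hr'V : r' ∈ L.hA.four := er' ▸ mul_mem (L.hA.four_conj hX.2 h) hX.2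
    calc r' * X.1 * r * (r' * (h * X.1 * h⁻¹))
        = r' * (X.1 * r * r') * (h * X.1 * h⁻¹) := by simp only [mul_assoc]
      _ = r' * (r' * (X.1 * r)) * (h * X.1 * h⁻¹) := by
          rw [L.hA.comm _ (A.mul_mem hX.1.1 hrV.1) _ hr'V.1]
      _ = r * (X.1 * (h * X.1 * h⁻¹)) := by
          rw [← mul_assoc r' r', hsq r' hr', one_mul, L.hA.comm _ hX.1.1 _ hrV.1, mul_assoc]
      _ = 1 := by rw [L.hA.comm _ hX.1.1 _ p1.1, er, hsq r hr]

/-- The norm map on a subgroup of `V × V`: its image, and its kernel of order at most four. -/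
theorem nrm_count {h : P} (hh : h * y * h⁻¹ = z * y) {U W : Subgroup (P × P)}
    (hU : U ≤ L.hA.four.prod L.hA.four) [Finite W] (hW : ∀ X ∈ U, nrm h X ∈ W) :
    Nat.card U ≤ 4 * Nat.card W ∧ (((1 : P), z) ∉ U → Nat.card U ≤ 3 * Nat.card W) := by
  classical
  let f : U →* P × P :=
    { toFun := fun X => nrm h X
      map_one' := by
        show nrm h 1 = 1
        unfold nrm; ext <;> simp
      map_mul' := fun X Y => L.nrm_mul h2 (hU X.2) (hU Y.2) }
  have hker : ∀ X : f.ker, ((X : U) : P × P) = 1 ∨ ((X : U) : P × P) = (1, z) ∨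
      ((X : U) : P × P) = (z, y) ∨ ((X : U) : P × P) = (z, z * y) := by
    rintro ⟨⟨⟨p, q⟩, hX⟩, he⟩
    obtain ⟨hp, hq⟩ := hU hX
    have e : (h * p * h⁻¹ * p, h * q * h⁻¹ * (h * p * h⁻¹) * q) = (1 : P × P) :=
      MonoidHom.mem_ker.1 he
    have e1 : h * p * h⁻¹ * p = 1 := congrArg Prod.fst e
    have e2 : h * q * h⁻¹ * q * (h * p * h⁻¹) = 1 := by
      have := congrArg Prod.snd e
      simp only [Prod.snd_one] at this
      rwa [mul_assoc (h * q * h⁻¹) q, ← L.hA.comm _ (L.hA.four_conj hp h).1 _ hq.1, ← mul_assoc]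
    have hp' : h * p * h⁻¹ = p := by
      rw [mul_eq_one_iff_eq_inv] at e1
      rw [e1]
      exact inv_eq_of_mul_eq_one_right (by rw [← pow_two]; exact hp.2)
    rw [hp'] at e2
    rcases L.conj_cases h2 hh hp with ⟨hp1, -⟩ | ⟨-, e1'⟩
    · rcases L.conj_cases h2 hh hq with ⟨hq1, eq'⟩ | ⟨hq1, eq'⟩ <;> rw [eq'] at e2
      · rw [one_mul] at e2
        rcases hq1 with rfl | rfl
        · exact Or.inl (Prod.ext e2 rfl)
        · exact Or.inr (Or.inl (Prod.ext e2 rfl))
      · have hpz : p = z := by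
          rcases hp1 with rfl | rfl
          · exact absurd (by rwa [mul_one] at e2) L.z1
          · rfl
        rcases hq1 with rfl | rfl
        · exact Or.inr (Or.inr (Or.inl (Prod.ext hpz rfl)))
        · exact Or.inr (Or.inr (Or.inr (Prod.ext hpz rfl)))
    · exact absurd (e1'.symm.trans e1) L.z1
  have hinj : ∀ S : Finset (P × P), (∀ X : f.ker, ((X : U) : P × P) ∈ S) →
      Nat.card f.ker ≤ S.card := by
    intro S hS
    refine le_trans (Nat.card_le_card_of_injective (fun X : f.ker => (⟨_, hS X⟩ : S))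
      fun X Y e => Subtype.ext (Subtype.ext (congrArg (fun t : S => (t : P × P)) e))) ?_
    rw [Nat.card_eq_fintype_card, Fintype.card_coe]
  have hr : Nat.card f.range ≤ Nat.card W := by
    refine Nat.card_le_card_of_injective (fun X : f.range => (⟨X.1, ?_⟩ : W))
      fun X Y e => Subtype.ext (congrArg (fun t : W => t.1) e)
    obtain ⟨Y, hY⟩ := X.2
    rw [← hY]
    exact hW _ Y.2
  have hmul := Subgroup.card_mul_index f.ker
  rw [Subgroup.index_ker] at hmul
  refine ⟨?_, fun he => ?_⟩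
  · rw [← hmul]
    refine Nat.mul_le_mul (le_trans (hinj {1, (1, z), (z, y), (z, z * y)} fun X => ?_) ?_) hr
    · rcases hker X with h' | h' | h' | h' <;> simp [h']
    · exact Finset.card_le_four
  · rw [← hmul]
    refine Nat.mul_le_mul (le_trans (hinj {1, (z, y), (z, z * y)} fun X => ?_) ?_) hr
    · rcases hker X with h' | h' | h' | h'
      · simp [h']
      · exact absurd (h' ▸ (X : U).2) he
      · simp [h']
      · simp [h']
    · exact Finset.card_le_three

theorem case_outside (H : Subgroup P) {h : P} (hH : h ∈ H)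
    (hh : h * y * h⁻¹ = z * y) (hbad : 32 * Nat.card (Phi H) ≤ Nat.card H) : False := by
  have hne : ∀ g : P, g ∉ Subgroup.centralizer ({y} : Set P) → g * y * g⁻¹ = z * y := fun g hg =>
    (L.flip g).resolve_left fun e => hg
      (Subgroup.mem_centralizer_singleton_iff.2 (mul_inv_eq_iff_eq_mul.1 e))
  have htwo : ∀ g k : P, g ∉ Subgroup.centralizer ({y} : Set P) →
      k ∉ Subgroup.centralizer ({y} : Set P) → g * k ∈ Subgroup.centralizer ({y} : Set P) := by
    intro g k hg hk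
    rw [Subgroup.mem_centralizer_singleton_iff, ← mul_inv_eq_iff_eq_mul]
    calc g * k * y * (g * k)⁻¹ = g * (k * y * k⁻¹) * g⁻¹ := by group
      _ = z * (z * y) := by rw [hne k hk, ← conj_mul, L.zc g, mul_inv_cancel_right, hne g hg]
      _ = y := by rw [← mul_assoc, ← pow_two, L.z_mem.2, one_mul]
  have hΦ : Phi H ≤ Subgroup.centralizer ({y} : Set P) := by
    refine Phi_le_of_sq (fun n hn _ g _ => L.conj_centralizer h2 g hn) fun g _ => ?_
    by_cases hg : g ∈ Subgroup.centralizer ({y} : Set P)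
    · exact pow_mem hg 2
    · rw [pow_two]; exact htwo g g hg hg
  have hH2 := card_le_two_mul htwo H
  obtain ⟨hc, hle⟩ := L.counts h2 H
  have hcΦ := L.card_img (Phi H)
  rw [inf_eq_left.2 hΦ] at hcΦ
  haveI : Finite (L.img (Phi H)) := inferInstance
  have hW : ∀ X ∈ L.img H, nrm h X ∈ L.img (Phi H) := by
    intro X hX
    obtain ⟨g, hgH, rfl⟩ := L.mem_img.1 hX
    let g' : Subgroup.centralizer ({y} : Set P) := ⟨h * g * h⁻¹, L.conj_centralizer h2 h g.2⟩
    refine L.mem_img.2 ⟨g' * g, ?_, by rw [map_mul, L.nrm_mu h2 hh g g' rfl]⟩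
    show h * (g : P) * h⁻¹ * g ∈ Phi H
    rw [show h * (g : P) * h⁻¹ * g = ⁅h, (g : P)⁆ * (g : P) ^ 2 by
      rw [commutatorElement_def, pow_two]; group]
    refine mul_mem ?_ (sq_mem_Phi h2 hgH)
    haveI : Fact (Nat.Prime 2) := ⟨Nat.prime_two⟩
    exact ⟨_, CfsgLib.PGroup.Frattini.commutatorElement_mem_frattini (h2.to_subgroup H)
      ⟨h, hH⟩ ⟨g, hgH⟩, rfl⟩
  obtain ⟨hU4, hU3⟩ := L.nrm_count h2 hh (L.img_le H) hW
  have hcard := Subgroup.card_le_of_le hle
  have hpos : 0 < Nat.card (L.img (Phi H)) * Nat.card ↥(Phi H ⊓ cen A) :=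
    Nat.mul_pos Nat.card_pos Nat.card_pos
  by_cases he : ((1 : P), z) ∈ L.img H
  · obtain ⟨g, hgH, hg⟩ := L.mem_img.1 he
    have heq : Phi (H ⊓ cen A) = Phi H ⊓ cen A := by
      by_contra hne'
      have h2' := two_mul_card_le (lt_of_le_of_ne hle hne')
      have := Nat.mul_le_mul hU4 h2'
      nlinarith [hc, hH2, hbad, hcΦ, hpos]
    refine L.e0_false h2 hg (Phi_mono h2 (inf_le_right : H ⊓ cen A ≤ cen A) ?_)
    rw [heq]
    exact ⟨sq_mem_Phi h2 hgH, L.mu_sq g⟩
  · have := Nat.mul_le_mul (hU3 he) hcard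
    nlinarith [hc, hH2, hbad, hcΦ, hpos]

/-- A lift `g` of `(1, z)` with square in `A` outside `V` squares into `a V`. -/
theorem sq_eq_a {g : Subgroup.centralizer ({y} : Set P)} (hg : L.mu g = (1, z))
    (hA2 : (g : P) ^ 2 ∈ A) (hV : (g : P) ^ 2 ∉ L.hA.four) :
    ∃ v ∈ L.hA.four, (g : P) ^ 2 = a * v := by
  have hfix : (g : P) * (g : P) ^ 2 * (g : P)⁻¹ = (g : P) ^ 2 := by
    simp only [pow_two]; group
  rcases L.cases_A hA2 with h' | h' | ⟨v, hv, e⟩ | ⟨v, hv, e⟩
  · exact absurd h' hV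
  · exact h'
  · rw [e] at hfix
    exact absurd ((congrArg Prod.snd hg).symm.trans (L.fix_coset (L.hy g) hv L.mu_snd hfix)) L.z1
  · rw [e] at hfix
    have := L.fix_coset (L.hy g) hv (L.mu_ab g) hfix
    rw [hg, one_mul] at this
    exact absurd this L.z1

theorem case_inside (H : Subgroup P) (hH : H ≤ Subgroup.centralizer ({y} : Set P)) {h : P}
    (hh : h * y * h⁻¹ = z * y) (hbad : 32 * Nat.card (Phi H) ≤ Nat.card H) : False := by
  classical
  haveI hVn : L.hA.four.Normal := ⟨fun x hx g => L.hA.four_conj hx g⟩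
  have m0 : ((1 : P), z) ∈ L.hA.four.prod L.hA.four := ⟨one_mem _, L.z_mem⟩
  have m3 : (y, z * y) ∈ L.hA.four.prod L.hA.four := ⟨L.y_mem, mul_mem L.z_mem L.y_mem⟩
  obtain ⟨hc, hle⟩ := L.counts h2 H
  rw [inf_eq_left.2 hH] at hc
  rcases L.inside h2 H hH hbad with htop | ⟨htwo, h8, hPhi⟩
  · -- everything is in the image
    obtain ⟨w, -, hw⟩ := L.mem_img.1 (show (y, z * y) ∈ L.img H by rw [htop]; exact m3)
    have hCA := (L.omega_lift h2 hw).1
    obtain ⟨u, huH, hu⟩ := L.mem_img.1 (show ((1 : P), z) ∈ L.img H by rw [htop]; exact m0)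
    by_cases huV : (u : P) ^ 2 ∈ L.hA.four
    · exact L.e0_false h2 hu (L.four_le_Phi_cen h2 huV)
    obtain ⟨v, hv, ev⟩ := L.sq_eq_a h2 hu (hCA (L.mu_sq u)) huV
    have hΦD : Phi H ≤ H ⊓ cen A := by
      refine le_inf (Phi_le H) (Phi_le_of_sq (fun n hn _ g _ => L.hA.cen_conj hn g) fun g hg => ?_)
      exact L.mu_sq ⟨g, hH hg⟩
    have hAH : ¬ A ≤ Phi H := by
      intro hA'
      have h1 : Nat.card ↥(H ⊓ cen A) ≤ Nat.card (Phi H) :=
        Subgroup.card_le_of_le ((inf_le_right.trans hCA).trans hA')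
      have h3 := L.card_img H
      rw [inf_eq_left.2 hH, htop] at h3
      have h4 := Nat.mul_le_mul L.card_prod_le h1
      have : 0 < Nat.card (Phi H) := Nat.card_pos
      omega
    have hsq : ∀ g : Subgroup.centralizer ({y} : Set P), (g : P) ∈ H →
        (L.mu g).1 ≠ 1 → (g : P) ^ 2 ∈ L.hA.four := by
      intro g hg hp
      have hgA := hCA (L.mu_sq g)
      have hgΦ := sq_mem_Phi h2 hg
      have huΦ := sq_mem_Phi h2 huH
      have hfix : (g : P) * (g : P) ^ 2 * (g : P)⁻¹ = (g : P) ^ 2 := by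
        simp only [pow_two]; group
      have hgen : ∀ w ∈ A, w ^ 2 = y ∨ w ^ 2 = z * y → w ∈ Phi H → False := by
        intro w hw hw2 hwΦ
        have hz' : z ∈ Phi H := by
          rw [← L.a2, ← L.mul_four_sq L.ha hv, ← ev]; exact pow_mem huΦ 2
        have hy' : y ∈ Phi H := by
          rcases hw2 with e | e
          · rw [← e]; exact pow_mem hwΦ 2
          · rw [show y = z⁻¹ * w ^ 2 by rw [e, inv_mul_cancel_left]]
            exact mul_mem (inv_mem hz') (pow_mem hwΦ 2)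
        have hVΦ : L.hA.four ≤ Phi H := by
          intro t ht
          rcases L.four_cases ht with rfl | rfl | rfl | rfl
          · exact one_mem _
          · exact hz'
          · exact hy'
          · exact mul_mem hz' hy'
        have ha' : a ∈ Phi H := by
          rw [show a = (u : P) ^ 2 * v⁻¹ by rw [ev, mul_inv_cancel_right]]
          exact mul_mem huΦ (inv_mem (hVΦ hv))
        have hb' : b ∈ Phi H := by
          rcases L.cases_A hw with h' | ⟨t, ht, e⟩ | ⟨t, ht, e⟩ | ⟨t, ht, e⟩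
          · rcases hw2 with e | e
            · exact absurd (e.symm.trans h'.2) L.y1
            · exact absurd (e.symm.trans h'.2) L.zy_ne_one
          · rw [e, L.mul_four_sq L.ha ht, L.a2] at hw2
            rcases hw2 with e' | e'
            · exact absurd e'.symm L.yz
            · exact absurd (left_eq_mul.1 e') L.y1
          · rw [show b = w * t⁻¹ by rw [e, mul_inv_cancel_right]]
            exact mul_mem hwΦ (inv_mem (hVΦ ht))
          · rw [show b = a⁻¹ * (w * t⁻¹) by rw [e, mul_inv_cancel_right, inv_mul_cancel_left]]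
            exact mul_mem (inv_mem ha') (mul_mem hwΦ (inv_mem (hVΦ ht)))
        refine hAH fun x hx => ?_
        rcases L.cases_A hx with h' | ⟨t, ht, rfl⟩ | ⟨t, ht, rfl⟩ | ⟨t, ht, rfl⟩
        · exact hVΦ h'
        · exact mul_mem ha' (hVΦ ht)
        · exact mul_mem hb' (hVΦ ht)
        · exact mul_mem (mul_mem ha' hb') (hVΦ ht)
      rcases L.cases_A hgA with h' | ⟨t, ht, e⟩ | ⟨t, ht, e⟩ | ⟨t, ht, e⟩
      · exact h'
      · rw [e] at hfix
        exact absurd (L.fix_coset (L.hy g) ht L.mu_fst hfix) hp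
      · exact (hgen _ hgA (Or.inl (by rw [e, L.mul_four_sq L.hb ht, L.b2])) hgΦ).elim
      · exact (hgen _ hgA (Or.inr (by
          rw [e, L.mul_four_sq (A.mul_mem L.ha L.hb) ht, L.ab_sq])) hgΦ).elim
    obtain ⟨g, hgH, hg⟩ := L.mem_img.1
      (show (z, (1 : P)) ∈ L.img H by rw [htop]; exact ⟨L.z_mem, one_mem _⟩)
    obtain ⟨k, hkH, hk⟩ := L.mem_img.1
      (show (y, (1 : P)) ∈ L.img H by rw [htop]; exact ⟨L.y_mem, one_mem _⟩)
    have key : ∀ t : Subgroup.centralizer ({y} : Set P), (t : P) ∈ H → (L.mu t).1 ≠ 1 →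
        ((t : P) : P ⧸ L.hA.four) ^ 2 = 1 := fun t ht hp => by
      rw [← QuotientGroup.mk_pow, QuotientGroup.eq_one_iff]; exact hsq t ht hp
    have hgk : ((g * k : Subgroup.centralizer ({y} : Set P)) : P) ∈ H := mul_mem hgH hkH
    have := sq_eq_one_of_six (g := ((g : P) : P ⧸ L.hA.four)) (g' := ((k : P) : P ⧸ L.hA.four))
      (x := ((u : P) : P ⧸ L.hA.four))
      (key g hgH (by rw [hg]; exact L.z1)) (key k hkH (by rw [hk]; exact L.y1))
      (key (g * k) hgk (by rw [map_mul, hg, hk]; exact L.zy_ne_one))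
      (key (g * u) (mul_mem hgH huH) (by
        rw [map_mul, hg, hu]; show z * 1 ≠ 1; rw [mul_one]; exact L.z1))
      (key (k * u) (mul_mem hkH huH) (by
        rw [map_mul, hk, hu]; show y * 1 ≠ 1; rw [mul_one]; exact L.y1))
      (key (g * k * u) (mul_mem hgk huH) (by
        rw [map_mul, map_mul, hg, hk, hu]; show z * y * 1 ≠ 1; rw [mul_one]; exact L.zy_ne_one))
    rw [← QuotientGroup.mk_pow, QuotientGroup.eq_one_iff] at this
    exact huV this
  · by_cases he : ((1 : P), z) ∈ L.img H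
    · obtain ⟨g, hgH, hg⟩ := L.mem_img.1 he
      exact L.e0_false h2 hg (Phi_mono h2 inf_le_right (hPhi (sq_mem_Phi h2 hgH)))
    let conjg : Subgroup.centralizer ({y} : Set P) → Subgroup.centralizer ({y} : Set P) :=
      fun g => ⟨h * g * h⁻¹, L.conj_centralizer h2 h g.2⟩
    obtain ⟨g1, hg1H, hg1⟩ : ∃ g : Subgroup.centralizer ({y} : Set P),
        (g : P) ∈ H ∧ L.mu (conjg g) ∉ L.img H := by
      by_contra hcon
      push Not at hcon
      -- the norm would map the image into the kernel of the norm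
      let K : Subgroup (P × P) :=
        { carrier := {X | X ∈ L.img H ∧ nrm h X = 1}
          one_mem' := ⟨one_mem _, by unfold nrm; ext <;> simp⟩
          mul_mem' := fun {X Y} hX hY => ⟨mul_mem hX.1 hY.1, by
            rw [L.nrm_mul h2 (L.img_le H hX.1) (L.img_le H hY.1), hX.2, hY.2, one_mul]⟩
          inv_mem' := fun {X} hX => ⟨inv_mem hX.1, by
            rw [inv_eq_of_mul_eq_one_right (L.prod_sq (L.img_le H hX.1))]; exact hX.2⟩ }
      have hKle : K ≤ L.img H := fun X hX => hX.1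
      have hW : ∀ X ∈ L.img H, nrm h X ∈ K := by
        intro X hX
        obtain ⟨g, hgH, rfl⟩ := L.mem_img.1 hX
        refine ⟨?_, L.nrm_nrm h2 hh (L.mu_mem g)⟩
        rw [L.nrm_mu h2 hh g (conjg g) rfl]
        exact mul_mem (hcon g hgH) hX
      haveI : Finite K := inferInstance
      have h1 := (L.nrm_count h2 hh (L.img_le H) hW).2 he
      have hKT : K ≤ L.hA.four.prod L.hA.four := hKle.trans (L.img_le H)
      haveI : Finite (⊥ : Subgroup (P × P)) := inferInstance
      have h3 := (L.nrm_count h2 hh hKT (W := ⊥) fun X hX => Subgroup.mem_bot.2 hX.2).2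
        fun h' => he (hKle h')
      rw [Subgroup.card_bot] at h3
      rw [h8] at h1
      -- a subgroup of order dividing `8` and at most `3` has order at most `2`
      have hdvd : Nat.card K ∣ 8 := h8 ▸ Subgroup.card_dvd_of_le hKle
      interval_cases hK : Nat.card K <;> omega
    have hmm := L.mu_mem (conjg g1)
    obtain ⟨y', hy'H, hy'⟩ := L.mem_img.1 (htwo _ m0 _ hmm he hg1)
    set u := y' * conjg g1 with hu_def
    have hu : L.mu u = (1, z) := by
      rw [hu_def, map_mul, hy', mul_assoc, L.prod_sq hmm, mul_one]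
    obtain ⟨w, hw⟩ : ∃ w, L.mu w = (y, z * y) := by
      by_cases h' : (y, z * y) ∈ L.img H
      · obtain ⟨w, -, hw⟩ := L.mem_img.1 h'; exact ⟨w, hw⟩
      · obtain ⟨w, -, hw⟩ := L.mem_img.1 (htwo _ m3 _ hmm h' hg1)
        exact ⟨w * conjg g1, by rw [map_mul, hw, mul_assoc, L.prod_sq hmm, mul_one]⟩
    have hCA := (L.omega_lift h2 hw).1
    by_cases huV : (u : P) ^ 2 ∈ L.hA.four
    · exact L.e0_false h2 hu (L.four_le_Phi_cen h2 huV)
    obtain ⟨v, hv, ev⟩ := L.sq_eq_a h2 hu (hCA (L.mu_sq u)) huV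
    have hΦV : Phi H ≤ L.hA.four := hPhi.trans (Phi_le_of_sq
      (fun n hn _ g _ => L.hA.four_conj hn g) fun d hd => ⟨hCA (pow_mem hd.2 2), by
        rw [← pow_mul]; exact L.hA.pow_four d (hCA hd.2)⟩)
    have hsqH : ∀ s ∈ H, s ^ 2 ∈ L.hA.four := fun s hs => hΦV (sq_mem_Phi h2 hs)
    -- first coordinates of the common part vanish
    have hp1 : ∀ g : Subgroup.centralizer ({y} : Set P), (g : P) ∈ H →
        L.mu (conjg g) ∈ L.img H → (L.mu g).1 = 1 := by
      intro g hgH hX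
      obtain ⟨s, hsH, hs⟩ := L.mem_img.1 hX
      set π := QuotientGroup.mk' L.hA.four with hπ
      have hinv : ∀ t : P, t ^ 2 ∈ L.hA.four → π t * π t = 1 := fun t ht => by
        rw [← map_mul, ← pow_two]; exact (QuotientGroup.eq_one_iff _).2 ht
      have hcomm : ∀ t t' : P, t ∈ H → t' ∈ H → π t * π t' = π t' * π t := by
        intro t t' ht ht'
        have i1 : (π t)⁻¹ = π t := inv_eq_of_mul_eq_one_right (hinv t (hsqH t ht))
        have i2 : (π t')⁻¹ = π t' := inv_eq_of_mul_eq_one_right (hinv t' (hsqH t' ht'))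
        have i3 : (π t * π t')⁻¹ = π t * π t' := inv_eq_of_mul_eq_one_right (by
          rw [← map_mul]; exact hinv _ (hsqH _ (mul_mem ht ht')))
        rw [← i3, mul_inv_rev, i1, i2]
      -- `s` differs from `conjg g` by an element of `A`
      set t : P := (s : P)⁻¹ * (conjg g : P) with ht_def
      have htA : t ∈ A := hCA (by
        have := (L.mu_eq_one_iff (s⁻¹ * conjg g)).1 (by rw [map_mul, map_inv, hs, inv_mul_cancel])
        simpa only [Subgroup.coe_mul, Subgroup.coe_inv] using this)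
      have hts : π (conjg g : P) = π (s : P) * π t := by rw [← map_mul, ht_def, mul_inv_cancel_left]
      have hc1 : π (conjg g : P) * π (conjg g1 : P) = π (conjg g1 : P) * π (conjg g : P) := by
        have e := hcomm _ _ hgH hg1H
        show π (h * g * h⁻¹) * π (h * g1 * h⁻¹) = π (h * g1 * h⁻¹) * π (h * g * h⁻¹)
        simp only [map_mul, map_inv]
        calc π h * π g * (π h)⁻¹ * (π h * π g1 * (π h)⁻¹) = π h * (π g * π g1) * (π h)⁻¹ := by group
          _ = π h * (π g1 * π g) * (π h)⁻¹ := by rw [e]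
          _ = _ := by group
      have hc2 : π (conjg g1 : P) * π t = π t * π (conjg g1 : P) := by
        have hm := L.comm_mem_four htA (g := (conjg g1 : P)) (by
          have : t ^ 2 ∈ L.hA.four :=
            ⟨A.pow_mem htA 2, by rw [← pow_mul]; exact L.hA.pow_four t htA⟩
          rw [L.comm_four_iff.1 (L.hy (conjg g1)) _ this, mul_inv_cancel_right])
        have := (QuotientGroup.eq_one_iff _).2 hm
        rw [← QuotientGroup.mk'_apply, ← hπ, map_mul, map_mul, map_mul, map_inv, map_inv,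
          mul_inv_eq_one, mul_inv_eq_iff_eq_mul] at this
        exact this
      have hc3 : π (s : P) * π (conjg g1 : P) = π (conjg g1 : P) * π (s : P) := by
        have e := hc1
        rw [hts, ← mul_assoc (π (conjg g1 : P)), mul_assoc (π (s : P)) (π t), ← hc2,
          ← mul_assoc (π (s : P))] at e
        exact mul_right_cancel e
      have hc4 : π (s : P) * π (u : P) = π (u : P) * π (s : P) := by
        rw [show π (u : P) = π (y' : P) * π (conjg g1 : P) by rw [← map_mul]; rfl, ← mul_assoc,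
          hcomm _ _ hsH hy'H, mul_assoc, hc3, ← mul_assoc]
      -- so `s u` squares into `u ^ 2 V`
      have hr : ((s : P) * u) ^ 2 * ((u : P) ^ 2)⁻¹ ∈ L.hA.four := by
        rw [← QuotientGroup.eq_one_iff, ← QuotientGroup.mk'_apply, ← hπ, map_mul, map_pow, map_mul,
          map_inv, map_pow, (show Commute (π (s : P)) (π (u : P)) from hc4).mul_pow,
          mul_inv_cancel_right, pow_two]
        exact hinv _ (hsqH _ hsH)
      set r := ((s : P) * u) ^ 2 * ((u : P) ^ 2)⁻¹ with hr_def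
      have hsu : ((s : P) * u) * y = y * ((s : P) * u) := by
        rw [mul_assoc, L.hy u, ← mul_assoc, L.hy s, mul_assoc]
      have hsufix : Commute ((s : P) * u) ((u : P) ^ 2) := by
        rw [show (u : P) ^ 2 = r⁻¹ * ((s : P) * u) ^ 2 by rw [hr_def]; group]
        exact ((show Commute ((s : P) * u) r from L.comm_four_iff.1 hsu _ hr).inv_right).mul_right
          ((Commute.refl _).pow_right 2)
      have hsfix : Commute (s : P) ((u : P) ^ 2) := by
        have := hsufix.mul_left ((Commute.refl (u : P)).pow_right 2).inv_left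
        rwa [mul_inv_cancel_right] at this
      have hp : (L.mu s).1 = 1 := L.fix_coset (L.hy s) hv L.mu_fst (by
        rw [← ev, hsfix.eq, mul_inv_cancel_right])
      rw [hs, L.mu_conj h2 hh g (conjg g) rfl] at hp
      exact conj_eq_one_iff.1 hp
    -- the image has only two first coordinates, so it contains `(1, z)`
    set p1 := (L.mu g1).1 with hp1def
    have hall : ∀ X ∈ L.img H, X.1 = 1 ∨ X.1 = p1 := by
      intro X hX
      obtain ⟨g, hgH, rfl⟩ := L.mem_img.1 hX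
      by_cases h' : L.mu (conjg g) ∈ L.img H
      · exact Or.inl (hp1 g hgH h')
      · refine Or.inr ?_
        have e : conjg (g * g1) = conjg g * conjg g1 := Subtype.ext (by
          show h * ((g : P) * g1) * h⁻¹ = h * g * h⁻¹ * (h * g1 * h⁻¹)
          group)
        have h'' : (L.mu (g * g1)).1 = 1 := hp1 (g * g1) (mul_mem hgH hg1H) (by
          rw [e, map_mul]
          exact htwo _ (L.mu_mem _) _ hmm h' hg1)
        rw [map_mul, Prod.fst_mul, mul_eq_one_iff_eq_inv] at h''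
        rw [h'']
        exact inv_eq_of_mul_eq_one_right (by rw [← pow_two]; exact (L.mu_mem g1).1.2)
    haveI := Fintype.ofFinite L.hA.four
    haveI := Fintype.ofFinite (L.img H)
    let φ : L.img H → Bool × L.hA.four := fun X =>
      (decide ((X : P × P).1 = 1), ⟨(X : P × P).2, (L.img_le H X.2).2⟩)
    have hφ : Function.Injective φ := by
      intro X Y e
      have e1 : ((X : P × P).1 = 1) ↔ ((Y : P × P).1 = 1) := decide_eq_decide.1 (congrArg Prod.fst e)
      have e2 : (X : P × P).2 = (Y : P × P).2 :=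
        congrArg (fun t : Bool × L.hA.four => (t.2 : P)) e
      refine Subtype.ext (Prod.ext ?_ e2)
      by_cases hX1 : (X : P × P).1 = 1
      · rw [hX1, e1.1 hX1]
      · rw [(hall _ X.2).resolve_left hX1, (hall _ Y.2).resolve_left fun e' => hX1 (e1.2 e')]
    have hb : (true, (⟨z, L.z_mem⟩ : L.hA.four)) ∉ Set.range φ := by
      rintro ⟨X, e⟩
      have e1 : (X : P × P).1 = 1 := of_decide_eq_true (congrArg Prod.fst e)
      have e2 : (X : P × P).2 = z := congrArg (fun t : Bool × L.hA.four => (t.2 : P)) e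
      have eX : ((1 : P), z) = (X : P × P) := Prod.ext e1.symm e2.symm
      exact he (eX.symm ▸ X.2)
    have := Fintype.card_lt_of_injective_of_notMem φ hφ hb
    rw [Fintype.card_prod, Fintype.card_bool, ← Nat.card_eq_fintype_card,
      ← Nat.card_eq_fintype_card, h8] at this
    have := L.hA.card_four L.hS
    omega

theorem large_false (H : Subgroup P) (hbad : 32 * Nat.card (Phi H) ≤ Nat.card H) : False := by
  by_cases hall : ∀ g : P, g * y = y * g
  · exact L.case_fixed h2 hall H hbad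
  push Not at hall
  obtain ⟨h, hh⟩ := hall
  have flip' : ∀ g : P, g * y ≠ y * g → g * y * g⁻¹ = z * y := fun g hg =>
    (L.flip g).resolve_left fun e => hg (mul_inv_eq_iff_eq_mul.1 e)
  by_cases hH : H ≤ Subgroup.centralizer ({y} : Set P)
  · exact L.case_inside h2 H hH (flip' h hh) hbad
  · obtain ⟨k, hk, hk'⟩ := SetLike.not_le_iff_exists.1 hH
    exact L.case_outside h2 H hk
      (flip' k fun e => hk' (Subgroup.mem_centralizer_singleton_iff.2 e)) hbad

end Large

end CfsgLib.TwoGroups.MacWilliams
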