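import Mathlib
import Cfsg.Prelude.Def_CaseTheorems
import Cfsg.Agent.Lib.TwoGroups.MacWilliams.LargeCase

/-!
# MacWilliams' theorem

A `2`-group without a normal elementary abelian subgroup of order eight has sectional rank at most
four.
-/

set_option autoImplicit false
set_option linter.style.haveILetI false
set_option linter.unusedSectionVars false

namespace CfsgLib.TwoGroups.MacWilliams

open scoped commutatorElement

universe u

variable {P : Type u} [Group P] [Finite P]

/-- Four distinct elements of a subgroup of order at most four exhaust it. -/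
theorem cover_of_card {V : Subgroup P} (hV : Nat.card V ≤ 4) {p q r : P} (hp : p ∈ V) (hq : q ∈ V)
    (hr : r ∈ V) (p1 : p ≠ 1) (q1 : q ≠ 1) (r1 : r ≠ 1) (pq : p ≠ q) (pr : p ≠ r) (qr : q ≠ r)
    {v : P} (hv : v ∈ V) : v = 1 ∨ v = p ∨ v = q ∨ v = r := by
  classical
  by_contra h
  simp only [not_or] at h
  obtain ⟨v1, vp, vq, vr⟩ := h
  haveI := Fintype.ofFinite V
  rw [Nat.card_eq_fintype_card] at hV
  have h5 : ({1, ⟨p, hp⟩, ⟨q, hq⟩, ⟨r, hr⟩, ⟨v, hv⟩} : Finset V).card = 5 := by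
    rw [Finset.card_insert_of_notMem, Finset.card_insert_of_notMem, Finset.card_insert_of_notMem,
      Finset.card_pair]
    · exact fun e => vr (congrArg Subtype.val e).symm
    · simp only [Finset.mem_insert, Finset.mem_singleton, Subtype.ext_iff, not_or]
      exact ⟨qr, fun e => vq e.symm⟩
    · simp only [Finset.mem_insert, Finset.mem_singleton, Subtype.ext_iff, not_or]
      exact ⟨pq, pr, fun e => vp e.symm⟩
    · simp only [Finset.mem_insert, Finset.mem_singleton, Subtype.ext_iff, not_or, Subgroup.coe_one]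
      exact ⟨p1.symm, q1.symm, r1.symm, fun e => v1 e.symm⟩
  have h' := Finset.card_le_univ ({1, ⟨p, hp⟩, ⟨q, hq⟩, ⟨r, hr⟩, ⟨v, hv⟩} : Finset V)
  omega

/-- No bad subgroup exists when `A` is generated by `V` and one further element. -/
theorem small_false (h2 : IsPGroup 2 P) {A : Subgroup P} (hA : MaxFour A) (hS : SmallElem P)
    {a : P} (ha : a ∈ A) (hgen : ∀ x ∈ A, x ∈ hA.four ∨ a⁻¹ * x ∈ hA.four)
    (H : Subgroup P) (hbad : 32 * Nat.card (Phi H) ≤ Nat.card H) : False := by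
  classical
  set P0 := Subgroup.centralizer (hA.four : Set P) with hP0
  have hP0iff : ∀ g, g ∈ P0 ↔ ∀ v ∈ hA.four, v * g = g * v := fun g => Iff.rfl
  have hval : ∀ g : P, g * a * g⁻¹ * a⁻¹ ∈ hA.four := by
    intro g
    rcases hgen _ (hA.conj_mem ha g) with h | h
    · have haV : a ∈ hA.four := by simpa [mul_assoc] using hA.four_conj h g⁻¹
      exact mul_mem h (inv_mem haV)
    · rwa [hA.comm _ (hA.conj_mem ha g) _ (A.inv_mem ha)]
  let f : P0 →* P :=
    { toFun := fun g => (g : P) * a * (g : P)⁻¹ * a⁻¹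
      map_one' := by simp
      map_mul' := by
        intro g k
        show (g : P) * k * a * ((g : P) * k)⁻¹ * a⁻¹ = _
        calc (g : P) * k * a * ((g : P) * k)⁻¹ * a⁻¹
            = (g : P) * ((k : P) * a * (k : P)⁻¹ * a⁻¹) * (g : P)⁻¹ *
                ((g : P) * a * (g : P)⁻¹ * a⁻¹) := by group
          _ = ((k : P) * a * (k : P)⁻¹ * a⁻¹) * ((g : P) * a * (g : P)⁻¹ * a⁻¹) := by
              rw [← (hP0iff g).1 g.2 _ (hval k), mul_inv_cancel_right]
          _ = _ := hA.comm _ (hval k).1 _ (hval g).1 }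
  have hCP0 : cen A ≤ P0 := fun g hg => (hP0iff g).2 fun v hv => mem_cen.1 hg v hv.1
  have hker : ∀ g : P0, f g = 1 ↔ (g : P) ∈ cen A := by
    intro g
    refine ⟨fun h => mem_cen.2 fun x hx => ?_, fun h => ?_⟩
    · have hga : (g : P) * a = a * g := mul_inv_eq_iff_eq_mul.1 (mul_inv_eq_one.1 h)
      rcases hgen x hx with h' | h'
      · exact (hP0iff g).1 g.2 x h'
      · rw [← mul_inv_cancel_left a x, mul_assoc, (hP0iff g).1 g.2 _ h', ← mul_assoc, ← hga,
          mul_assoc]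
    · show (g : P) * a * (g : P)⁻¹ * a⁻¹ = 1
      rw [← mem_cen.1 h a ha, mul_inv_cancel_right, mul_inv_cancel]
  set K := H.subgroupOf P0 with hK
  have hrange : Nat.card (f.comp K.subtype).range ≤ Nat.card hA.four :=
    Nat.card_le_card_of_injective (fun t : (f.comp K.subtype).range => (⟨t.1, by
      obtain ⟨g, hg⟩ := t.2; rw [← hg]; exact hval _⟩ : hA.four))
      fun p q e => Subtype.ext (congrArg (fun t : hA.four => (t : P)) e)
  have hkc : Nat.card (f.comp K.subtype).ker = Nat.card ↥(H ⊓ cen A) := Nat.card_congr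
    { toFun := fun t => ⟨((t.1 : K) : P0), t.1.2, (hker _).1 t.2⟩
      invFun := fun t => ⟨⟨⟨t.1, hCP0 t.2.2⟩, t.2.1⟩, (hker _).2 t.2.2⟩
      left_inv := fun _ => rfl
      right_inv := fun _ => rfl }
  have hcard : Nat.card ↥(H ⊓ P0) =
      Nat.card (f.comp K.subtype).range * Nat.card ↥(H ⊓ cen A) := by
    have h1 : Nat.card K = Nat.card ↥(H ⊓ P0) := by
      rw [← Subgroup.card_map_of_injective (f := Subgroup.subtype _) (Subgroup.subtype_injective _)
        (K := K), hK, Subgroup.subgroupOf_map_subtype]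
    rw [← h1, ← Subgroup.card_mul_index (f.comp K.subtype).ker, Subgroup.index_ker, hkc, mul_comm]
  have hD : Nat.card ↥(H ⊓ cen A) ≤ 4 * Nat.card (Phi (H ⊓ cen A)) :=
    card_le_of_le_cen h2 hA hS inf_le_right
  have hle : Phi (H ⊓ cen A) ≤ Phi H := Phi_mono h2 inf_le_left
  have hleC := Subgroup.card_le_of_le hle
  have hr4 : Nat.card (f.comp K.subtype).range ≤ 4 := hrange.trans (hA.card_four hS)
  have hmul := Nat.mul_le_mul hr4 hD
  have hpos : 0 < Nat.card (Phi H) := Nat.card_pos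
  obtain ⟨h, hhH, hhP⟩ : ∃ h ∈ H, h ∉ P0 := by
    by_contra hcon
    push Not at hcon
    rw [inf_eq_left.2 (fun g hg => hcon g hg)] at hcard
    omega
  obtain ⟨y, hy, hyh⟩ : ∃ y ∈ hA.four, y * h ≠ h * y := by
    by_contra hcon
    push Not at hcon
    exact hhP ((hP0iff h).2 hcon)
  haveI hVn : hA.four.Normal := ⟨fun x hx g => hA.four_conj hx g⟩
  obtain ⟨z, hz, hz1, hzc⟩ := exists_central_mem h2 (N := hA.four) fun e => hyh (by
    rw [e, Subgroup.mem_bot] at hy; rw [hy, one_mul, mul_one])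
  have hy1 : y ≠ 1 := fun e => hyh (by rw [e, one_mul, mul_one])
  have hyz : y ≠ z := fun e => hyh (by rw [e, hzc h])
  have hzy1 : z * y ≠ 1 := fun e => hyz (by
    have := hz.2; rw [pow_two] at this; exact mul_left_cancel (e.trans this.symm))
  have hcov : ∀ v ∈ hA.four, v = 1 ∨ v = z ∨ v = y ∨ v = z * y := fun v hv =>
    cover_of_card (hA.card_four hS) hz hy (mul_mem hz hy) hz1 hy1 hzy1 hyz.symm
      (fun e => hy1 (left_eq_mul.1 e)) (fun e => hz1 (right_eq_mul.1 e)) hv
  have hflip : ∀ g, g ∉ P0 → g * y * g⁻¹ = z * y := by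
    intro g hg
    rcases hcov _ (hA.four_conj hy g) with e | e | e | e
    · exact absurd (conj_eq_one_iff.1 e) hy1
    · refine absurd ?_ hyz
      calc y = g⁻¹ * (g * y * g⁻¹) * g := by group
        _ = g⁻¹ * (g * z) := by rw [e, mul_assoc, hzc g]
        _ = z := inv_mul_cancel_left g z
    · refine absurd ((hP0iff g).2 fun v hv => ?_) hg
      have e' : g * y = y * g := mul_inv_eq_iff_eq_mul.1 e
      rcases hcov v hv with rfl | rfl | rfl | rfl
      · rw [one_mul, mul_one]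
      · exact (hzc g).symm
      · exact e'.symm
      · rw [mul_assoc, ← e', ← mul_assoc, ← hzc g, mul_assoc]
    · exact e
  have htwo : ∀ g k : P, g ∉ P0 → k ∉ P0 → g * k ∈ P0 := by
    intro g k hg hk
    have e : g * k * y * (g * k)⁻¹ = y := by
      calc g * k * y * (g * k)⁻¹ = g * (k * y * k⁻¹) * g⁻¹ := by group
        _ = z * (z * y) := by rw [hflip k hk, ← conj_mul, hzc g, mul_inv_cancel_right, hflip g hg]
        _ = y := by rw [← mul_assoc, ← pow_two, hz.2, one_mul]
    by_contra hgk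
    exact hz1 (right_eq_mul.1 (e.symm.trans (hflip _ hgk)))
  have hH2 := card_le_two_mul htwo H
  rw [hcard] at hH2
  have heq : Phi (H ⊓ cen A) = Phi H := Subgroup.eq_of_le_of_card_ge hle (by omega)
  have hr : hA.four ≤ (f.comp K.subtype).range := by
    have hsub : (f.comp K.subtype).range ≤ hA.four := by
      rintro _ ⟨g, rfl⟩; exact hval _
    refine (Subgroup.eq_of_le_of_card_ge hsub ?_).ge
    refine le_trans (hA.card_four hS) ?_
    by_contra hlt
    have h3 : Nat.card (f.comp K.subtype).range ≤ 3 := by omega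
    have := Nat.mul_le_mul h3 hD
    omega
  obtain ⟨⟨p, hpH⟩, hp⟩ := hr hy
  have hp' : (p : P) * a * (p : P)⁻¹ = y * a := by
    rw [show y = (p : P) * a * (p : P)⁻¹ * a⁻¹ from hp.symm, inv_mul_cancel_right]
  set c := h * (p : P) * h⁻¹ * (p : P)⁻¹ with hc_def
  have hcC : c ∈ cen A := by
    have : c ∈ Phi H := by
      haveI : Fact (Nat.Prime 2) := ⟨Nat.prime_two⟩
      exact ⟨_, CfsgLib.PGroup.Frattini.commutatorElement_mem_frattini (h2.to_subgroup H)
        ⟨h, hhH⟩ ⟨p, hpH⟩, rfl⟩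
    rw [← heq] at this
    exact ((Phi_le _) this).2
  -- `h p h⁻¹` acts on `a` both as `y` and as `z y`
  set w := (h⁻¹ * a * h) * a⁻¹ with hw_def
  have hw : w ∈ hA.four := by simpa [hw_def] using hval h⁻¹
  have hwp := (hP0iff p).1 p.2 w hw
  have e1 : (c * p) * a * (c * p)⁻¹ = z * y * a := by
    have hyw : Commute y w := hA.comm _ hy.1 _ hw.1
    calc (c * p) * a * (c * p)⁻¹ = h * ((p : P) * (w * a) * (p : P)⁻¹) * h⁻¹ := by
          rw [hc_def, hw_def]; group
      _ = h * (w * ((p : P) * a * (p : P)⁻¹)) * h⁻¹ := by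
          rw [← mul_assoc (p : P) w a, ← hwp]; simp only [mul_assoc]
      _ = h * (y * (w * a)) * h⁻¹ := by rw [hp', ← mul_assoc w y a, ← hyw.eq, mul_assoc y w a]
      _ = (h * y * h⁻¹) * (h * (w * a) * h⁻¹) := conj_mul.symm
      _ = _ := by rw [hflip h hhP, hw_def]; group
  have e2 : (c * p) * a * (c * p)⁻¹ = y * a := by
    calc (c * p) * a * (c * p)⁻¹ = c * ((p : P) * a * (p : P)⁻¹) * c⁻¹ := by group
      _ = y * a := by
          rw [hp', ← mem_cen.1 hcC _ (A.mul_mem hy.1 ha), mul_inv_cancel_right]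
  exact hz1 (right_eq_mul.1 (mul_right_cancel (e2.symm.trans e1)))

/-- Every subgroup is generated by at most four elements. -/
theorem index_frattini_le_sixteen (h2 : IsPGroup 2 P) (hS : SmallElem P) (H : Subgroup P) :
    (frattini H).index ≤ 16 := by
  classical
  haveI : Fact (Nat.Prime 2) := ⟨Nat.prime_two⟩
  by_contra hlt
  obtain ⟨n, hn⟩ := (h2.to_subgroup H).index (frattini H)
  have h5 : 5 ≤ n := by
    by_contra hn'
    have : 2 ^ n ≤ 2 ^ 4 := Nat.pow_le_pow_right (by norm_num) (by omega)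
    omega
  have hbad : 32 * Nat.card (Phi H) ≤ Nat.card H := by
    rw [card_eq_mul_index H, hn, mul_comm]
    exact Nat.mul_le_mul_left _ (le_trans (by norm_num) (Nat.pow_le_pow_right (by norm_num) h5))
  obtain ⟨A, hA⟩ := exists_maxFour (P := P)
  by_cases hsmall : ∃ a ∈ A, ∀ x ∈ A, x ∈ hA.four ∨ a⁻¹ * x ∈ hA.four
  · obtain ⟨a, ha, hgen⟩ := hsmall
    exact small_false h2 hA hS ha hgen H hbad
  push Not at hsmall
  obtain ⟨a0, ha0, ha0V, -⟩ := hsmall 1 (one_mem A)
  obtain ⟨b0, hb0, hb0V, hab0⟩ := hsmall a0 ha0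
  have hsq : ∀ x ∈ A, x ^ 2 ∈ hA.four := fun x hx =>
    ⟨A.pow_mem hx 2, by rw [← pow_mul]; exact hA.pow_four x hx⟩
  have ha1 : a0 ^ 2 ≠ 1 := fun e => ha0V ⟨ha0, e⟩
  have hb1 : b0 ^ 2 ≠ 1 := fun e => hb0V ⟨hb0, e⟩
  have hmul : ∀ p ∈ A, ∀ q ∈ A, (p * q) ^ 2 = p ^ 2 * q ^ 2 := fun p hp q hq =>
    (show Commute p q from hA.comm p hp q hq).mul_pow 2
  have hne : a0 ^ 2 ≠ b0 ^ 2 := fun e => hab0 ⟨A.mul_mem (A.inv_mem ha0) hb0, by
    rw [hmul _ (A.inv_mem ha0) _ hb0, inv_pow, e, inv_mul_cancel]⟩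
  have hab1 : a0 ^ 2 * b0 ^ 2 ≠ 1 := fun e => hne (by
    have := (hsq b0 hb0).2; rw [pow_two (b0 ^ 2)] at this
    exact mul_right_cancel (e.trans this.symm))
  haveI hVn : hA.four.Normal := ⟨fun x hx g => hA.four_conj hx g⟩
  obtain ⟨z, hz, hz1, hzc⟩ := exists_central_mem h2 (N := hA.four) fun e => ha1 (by
    have := hsq a0 ha0; rwa [e, Subgroup.mem_bot] at this)
  rcases cover_of_card (hA.card_four hS) (hsq a0 ha0) (hsq b0 hb0)
      (mul_mem (hsq a0 ha0) (hsq b0 hb0)) ha1 hb1 hab1 hne (fun e => hb1 (left_eq_mul.1 e))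
      (fun e => ha1 (right_eq_mul.1 e)) hz with e | e | e | e
  · exact hz1 e
  · exact Large.large_false (a := a0) (b := b0) (z := z) (y := b0 ^ 2)
      ⟨hA, hS, ha0, hb0, e.symm, rfl, hzc, hz1, hb1, fun e' => hne (e.symm.trans e'.symm)⟩ h2 H hbad
  · exact Large.large_false (a := b0) (b := a0) (z := z) (y := a0 ^ 2)
      ⟨hA, hS, hb0, ha0, e.symm, rfl, hzc, hz1, ha1, fun e' => hne (e'.trans e)⟩ h2 H hbad
  · exact Large.large_false (a := a0 * b0) (b := a0) (z := z) (y := a0 ^ 2)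
      ⟨hA, hS, A.mul_mem ha0 hb0, ha0, (hmul _ ha0 _ hb0).trans e.symm, rfl, hzc, hz1, ha1,
        fun e' => hb1 (left_eq_mul.1 (e'.trans e))⟩ h2 H hbad

/-- MacWilliams' theorem. -/
theorem sectionalPRankLE_four (h2 : IsPGroup 2 P) (hS : SmallElem P) :
    Cfsg.SectionalPRankLE 2 4 P := by
  intro H N _ A hAc hA2
  set B : Subgroup H := A.comap (QuotientGroup.mk' N) with hB
  set K : Subgroup P := B.map H.subtype with hK
  let e : B ≃* K := B.equivMapOfInjective H.subtype H.subtype_injective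
  let f : K →* A := ((QuotientGroup.mk' N).subgroupComap A).comp e.symm.toMonoidHom
  have hf : Function.Surjective f := by
    rintro ⟨q, hq⟩
    obtain ⟨x, rfl⟩ := QuotientGroup.mk'_surjective N q
    exact ⟨e ⟨x, hq⟩, by
      show (QuotientGroup.mk' N).subgroupComap A (e.symm (e ⟨x, hq⟩)) = _
      rw [MulEquiv.symm_apply_apply]; rfl⟩
  have hle : frattini K ≤ f.ker := frattini_le_of_sq fun x => by
    rw [MonoidHom.mem_ker, map_pow]
    exact Subtype.ext (hA2 _ (f x).2)
  calc Nat.card A = f.ker.index := by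
        rw [Subgroup.index_ker, MonoidHom.range_eq_top.2 hf, Subgroup.card_top]
    _ ≤ (frattini K).index := Nat.le_of_dvd (Nat.pos_of_ne_zero Subgroup.index_ne_zero_of_finite)
        (Subgroup.index_dvd_of_le hle)
    _ ≤ 2 ^ 4 := index_frattini_le_sixteen h2 hS K

end CfsgLib.TwoGroups.MacWilliams
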